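import Cfsg.Agent.Lib.TransOdd.Combin
import Cfsg.Agent.Lib.OddOrder41.FixOmega
import Cfsg.Agent.Lib.PGroup.Class2
import Cfsg.Agent.Lib.Transfer.NormalComplement

/-!
A finite group of odd order acting faithfully on a 2-torsion group, all centralisers of nonzero
vectors' stabilising elements acting semilinearly on their fixed points, is solvable: for primes
`p < q` a `q`-element normalising a `p`-subgroup centralises it.
-/

set_option autoImplicit false

namespace CfsgLib.TransOdd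

open scoped commutatorElement

universe u v

variable {D : Type u} [Group D] [Finite D] {E : Type v} [AddCommGroup E] [DistribMulAction D E]

omit [Finite D] in
theorem commute_closure {S : Set D} (h : ∀ a ∈ S, ∀ b ∈ S, a * b = b * a) :
    ∀ x ∈ Subgroup.closure S, ∀ y ∈ Subgroup.closure S, x * y = y * x := by
  have h1 : Subgroup.closure S ≤ Subgroup.centralizer S :=
    (Subgroup.closure_le _).2 fun a ha => Subgroup.mem_centralizer_iff.2 fun b hb => h b hb a ha
  have h2 : Subgroup.closure S ≤ Subgroup.centralizer (Subgroup.closure S : Set D) :=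
    (Subgroup.closure_le _).2 fun a ha => Subgroup.mem_centralizer_iff.2 fun b hb =>
      ((Subgroup.mem_centralizer_iff.1 (h1 hb)) a ha).symm
  exact fun x hx y hy => ((Subgroup.mem_centralizer_iff.1 (h2 hx)) y hy).symm

/-- in class two, the centraliser of an element has index at most the order of the derived group -/
theorem card_le_mul_centralizer {Q C Z : Subgroup D} (hCQ : C ≤ Q) {u : D} (hu : u ∈ Q)
    (hcl : ∀ a ∈ Q, ∀ b ∈ Q, ∀ c ∈ Q, c * ⁅a, b⁆ = ⁅a, b⁆ * c) (hZ : ∀ a ∈ Q, ∀ b ∈ Q, ⁅a, b⁆ ∈ Z) :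
    Nat.card C ≤ Nat.card Z * Nat.card ↥(C ⊓ Subgroup.centralizer ({u} : Set D)) := by
  let f : C →* D :=
    { toFun := fun x => ⁅(x : D), u⁆
      map_one' := by simp [commutatorElement_def]
      map_mul' := fun x y => by
        have h1 := hcl y (hCQ y.2) u hu x (hCQ x.2)
        have h2 := hcl y (hCQ y.2) u hu ⁅(x : D), u⁆ (mul_mem (mul_mem (mul_mem (hCQ x.2) hu)
          (inv_mem (hCQ x.2))) (inv_mem hu))
        rw [Subgroup.coe_mul, show ⁅(x : D) * y, u⁆ = x * ⁅(y : D), u⁆ * (x : D)⁻¹ * ⁅(x : D), u⁆ by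
          simp only [commutatorElement_def]; group, h1, mul_inv_cancel_right, ← h2] }
  have hker : f.ker = (C ⊓ Subgroup.centralizer ({u} : Set D)).subgroupOf C := by
    ext x
    simp [f, Subgroup.mem_subgroupOf, Subgroup.mem_centralizer_singleton_iff,
      commutatorElement_eq_one_iff_mul_comm]
  have hran : f.range ≤ Z := by
    rintro _ ⟨x, rfl⟩
    exact hZ x (hCQ x.2) u hu
  calc Nat.card C = f.ker.index * Nat.card f.ker := by rw [mul_comm, Subgroup.card_mul_index]
    _ ≤ _ := by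
      rw [Subgroup.index_ker, hker, Nat.card_congr (Subgroup.subgroupOfEquivOfLe inf_le_left).toEquiv]
      exact Nat.mul_le_mul_right _ (Subgroup.card_le_of_le hran)

variable [FaithfulSMul D E]

/-- `p < q`: a `q`-element normalising a `p`-subgroup centralises it -/
theorem centralizes_of_lt {p q : ℕ} [hp : Fact p.Prime] [hq : Fact q.Prime] (hp2 : p ≠ 2) (hpq : p < q)
    (hinv : ∀ a : E, p • a = 0 → a = 0) (hloc : LocallySemilinear D E) {g : D} {n : ℕ}
    (hg : g ^ q ^ n = 1) :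
    ∀ (N : ℕ) (Q : Subgroup D), Nat.card Q = N → IsPGroup p Q → (∀ x ∈ Q, g * x * g⁻¹ ∈ Q) →
      ∀ x ∈ Q, g * x = x * g := by
  classical
  intro N
  induction N using Nat.strong_induction_on with
  | _ N ih =>
  intro Q hN hQ hgQ
  have hcop : (orderOf g).Coprime p :=
    Nat.Coprime.coprime_dvd_left (orderOf_dvd_of_pow_eq_one hg)
      (Nat.Coprime.pow_left n ((Nat.coprime_primes hq.out hp.out).2 hpq.ne'))
  have hprop : ∀ K : Subgroup D, K ≤ Q → K ≠ Q → (∀ x ∈ K, g * x * g⁻¹ ∈ K) →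
      ∀ x ∈ K, g * x = x * g := fun K hK hne hgK => by
    refine ih _ ?_ K rfl (hQ.to_le hK) hgK
    rw [← hN]
    exact lt_of_le_of_ne (Subgroup.card_le_of_le hK)
      fun h => hne (Subgroup.eq_of_le_of_card_ge hK h.ge)
  by_contra hmove
  -- `Q` is generated by its elements of order `p`
  let Om : Subgroup D := Subgroup.closure {x | x ∈ Q ∧ x ^ p = 1}
  have hOm : Om = Q := by
    by_contra hne
    refine hmove fun x hx => OddOrder41.fixes_of_fixes_exponent_p hp2 g hcop N Q hN hQ hgQ ?_ x hx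
    refine fun y hy hyp => hprop Om ((Subgroup.closure_le _).2 fun z hz => hz.1) hne
      (OddOrder41.closure_conj_invariant fun z hz => Subgroup.subset_closure ⟨hgQ z hz.1, ?_⟩) y
      (Subgroup.subset_closure ⟨hy, hyp⟩)
    rw [conj_pow, hz.2, mul_one, mul_inv_cancel]
  -- and by its displacements
  let T : Subgroup D := Subgroup.closure ((fun x => x⁻¹ * (g * x * g⁻¹)) '' (Q : Set D))
  have hTQ : T ≤ Q := by
    rw [Subgroup.closure_le]
    rintro _ ⟨x, hx, rfl⟩
    exact mul_mem (inv_mem hx) (hgQ x hx)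
  have hcopQ : (orderOf g).Coprime (Nat.card Q) := by
    obtain ⟨k, hk⟩ := hQ.exists_card_eq
    rw [hk]; exact Nat.Coprime.pow_right _ hcop
  have hstep : ∀ x ∈ Q, g * (x⁻¹ * (g * x * g⁻¹)) = x⁻¹ * (g * x * g⁻¹) * g → g * x = x * g :=
    fun x hx h => OddOrder41.fixes_of_step_fixed hcopQ (mul_mem (inv_mem hx) (hgQ x hx))
      (by group) (by rw [h]; group)
  have hT : T = Q := by
    by_contra hne
    refine hmove fun x hx => hstep x hx ?_
    refine hprop T hTQ hne (OddOrder41.closure_conj_invariant ?_) _ (Subgroup.subset_closure ⟨x, hx, rfl⟩)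
    rintro _ ⟨y, hy, rfl⟩
    exact Subgroup.subset_closure ⟨g * y * g⁻¹, hgQ y hy, by simp only; group⟩
  have hnotin : ∀ N' : Subgroup D, N' ≤ Q → (∀ x ∈ Q, x⁻¹ * (g * x * g⁻¹) ∈ N') → N' = Q := by
    intro N' hN' h
    refine le_antisymm hN' (hT.ge.trans ((Subgroup.closure_le _).2 ?_))
    rintro _ ⟨x, hx, rfl⟩
    exact h x hx
  have hbot : Q ≠ ⊥ := fun h => hmove fun x hx => by
    rw [h, Subgroup.mem_bot] at hx
    simp [hx]
  -- proper invariant normal subgroups are central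
  have hcentral : ∀ K : Subgroup D, K ≤ Q → K ≠ Q → (∀ x ∈ K, g * x * g⁻¹ ∈ K) →
      (∀ y ∈ Q, ∀ x ∈ K, y * x * y⁻¹ ∈ K) → ∀ y ∈ Q, ∀ x ∈ K, y * x = x * y := by
    intro K hK hne hgK hnK y hy x hx
    have hle : Q ≤ Subgroup.centralizer (K : Set D) := hT.ge.trans ((Subgroup.closure_le _).2 (by
      rintro _ ⟨z, hz, rfl⟩
      refine Subgroup.mem_centralizer_iff.2 fun k hk => ?_
      have h1 := hprop K hK hne hgK k hk
      have h2 := hprop K hK hne hgK _ (hnK z hz k hk)
      have h1' : g⁻¹ * k = k * g⁻¹ := ((show Commute g k from h1).inv_left).eq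
      calc k * (z⁻¹ * (g * z * g⁻¹)) = z⁻¹ * (z * k * z⁻¹ * g) * z * g⁻¹ := by group
        _ = z⁻¹ * (g * (z * k * z⁻¹)) * z * g⁻¹ := by rw [h2]
        _ = z⁻¹ * g * z * (k * g⁻¹) := by group
        _ = z⁻¹ * g * z * (g⁻¹ * k) := by rw [h1']
        _ = z⁻¹ * (g * z * g⁻¹) * k := by group))
    exact ((Subgroup.mem_centralizer_iff.1 (hle hy)) x hx).symm
  haveI : Group.IsNilpotent Q := hQ.isNilpotent
  let C1 : Subgroup D := ⁅Q, Q⁆
  have hC1Q : C1 ≤ Q := Subgroup.commutator_le_self Q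
  have hC1ne : C1 ≠ Q := by
    intro h
    haveI : Nontrivial Q := (Subgroup.nontrivial_iff_ne_bot Q).2 hbot
    apply (lt_top_iff_ne_top.1 (Group.IsSolvable.commutator_lt_top_of_nontrivial Q))
    apply Subgroup.map_injective Q.subtype_injective
    rw [Subgroup.map_subtype_commutator, ← MonoidHom.range_eq_map, Subgroup.range_subtype]
    exact h
  have hgC1 : ∀ x ∈ C1, g * x * g⁻¹ ∈ C1 := by
    intro x hx
    refine (Subgroup.commutator_le.2 fun a ha b hb => ?_ : C1 ≤ C1.comap (MulAut.conj g).toMonoidHom) hx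
    rw [Subgroup.mem_comap, map_commutatorElement]
    exact Subgroup.commutator_mem_commutator (hgQ a ha) (hgQ b hb)
  have hC1mem : ∀ a ∈ Q, ∀ b ∈ Q, ⁅a, b⁆ ∈ C1 := fun a ha b hb =>
    Subgroup.commutator_mem_commutator ha hb
  have hC1n : ∀ y ∈ Q, ∀ x ∈ C1, y * x * y⁻¹ ∈ C1 := fun y hy x hx => by
    have h1 := hC1mem y hy x (hC1Q hx)
    have := mul_mem h1 hx
    simpa [commutatorElement_def] using this
  have hC1c := hcentral C1 hC1Q hC1ne hgC1 hC1n
  have hcl : ∀ a ∈ Q, ∀ b ∈ Q, ∀ c ∈ Q, c * ⁅a, b⁆ = ⁅a, b⁆ * c := fun a ha b hb c hc =>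
    hC1c c hc _ (hC1mem a ha b hb)
  have hexp : ∀ x ∈ Q, x ^ p = 1 := by
    intro x hx
    have hclQ : ∀ a b : Q, ⁅a, b⁆ ∈ Subgroup.center Q := fun a b =>
      Subgroup.mem_center_iff.2 fun c => Subtype.ext (hcl a a.2 b b.2 c c.2)
    have himg : Q.subtype '' {y : Q | y ^ p = 1} = {y | y ∈ Q ∧ y ^ p = 1} := by
      ext y
      constructor
      · rintro ⟨z, hz, rfl⟩
        exact ⟨z.2, by simpa using congrArg Subtype.val hz⟩
      · rintro ⟨hy, hyp⟩
        exact ⟨⟨y, hy⟩, Subtype.ext (by simpa using hyp), rfl⟩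
    have hx' : x ∈ (Subgroup.closure {y : Q | y ^ p = 1}).map Q.subtype := by
      rw [MonoidHom.map_closure, himg]
      exact hOm.ge hx
    obtain ⟨y, hy, rfl⟩ := hx'
    have := PGroup.pow_eq_one_of_mem_closure_class_two (hp.out.odd_of_ne_two hp2) hclQ _
      (fun z hz => hz) hy
    simpa using congrArg Subtype.val this
  have hpow : IsPGroup p Q := hQ
  by_cases hab : ∀ x ∈ Q, ∀ y ∈ Q, x * y = y * x
  · -- abelian case
    have hδ : ∀ y ∈ Q, ∃ x ∈ Q, x⁻¹ * (g * x * g⁻¹) = y := by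
      intro y hy
      have hy' : y ∈ T := hT.ge hy
      induction hy' using Subgroup.closure_induction with
      | mem z hz =>
        obtain ⟨x, hx, rfl⟩ := hz
        exact ⟨x, hx, rfl⟩
      | one => exact ⟨1, one_mem _, by group⟩
      | mul a b ha hb iha ihb =>
        obtain ⟨x, hx, rfl⟩ := iha (hTQ ha)
        obtain ⟨z, hz, rfl⟩ := ihb (hTQ hb)
        refine ⟨x * z, mul_mem hx hz, ?_⟩
        have h3 := hab z⁻¹ (inv_mem hz) (x⁻¹ * (g * x * g⁻¹)) (mul_mem (inv_mem hx) (hgQ x hx))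
        calc (x * z)⁻¹ * (g * (x * z) * g⁻¹) = z⁻¹ * (x⁻¹ * (g * x * g⁻¹)) * (g * z * g⁻¹) := by group
          _ = _ := by rw [h3]; group
      | inv a ha iha =>
        obtain ⟨x, hx, rfl⟩ := iha (hTQ ha)
        refine ⟨x⁻¹, inv_mem hx, ?_⟩
        have h3 := hab x hx (g * x⁻¹ * g⁻¹) (hgQ _ (inv_mem hx))
        calc x⁻¹⁻¹ * (g * x⁻¹ * g⁻¹) = x * (g * x⁻¹ * g⁻¹) := by group
          _ = (g * x⁻¹ * g⁻¹) * x := h3
          _ = _ := by group
    have hfree : ∀ x ∈ Q, g * x * g⁻¹ = x → x = 1 := by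
      intro x hx hfx
      obtain ⟨y, hy, rfl⟩ := hδ x hx
      have := hstep y hy (by
        conv_rhs => rw [← hfx]
        group)
      rw [this]; group
    by_cases hs : ∃ s : E, s ≠ 0 ∧ ∀ x ∈ Q, x • s = s
    · obtain ⟨s, hs0, hs⟩ := hs
      have h2 := card_le_sq_of_fixed hinv hloc Q hab hexp hs0 hs
      refine hbot (hnotin ⊥ bot_le (absorb hp2 hpq hQ bot_le (fun x _ y hy => ?_) hg hgQ
        (fun y hy => ?_) (by rw [Subgroup.card_bot, mul_one]; exact h2))).symm
      all_goals rw [Subgroup.mem_bot.1 hy]; simp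
    · push Not at hs
      refine not_exists_free_automorphism hp2 hpq hinv hloc Q hbot hab hexp (fun a ha => ?_) hg hgQ hfree
      by_contra ha0
      obtain ⟨x, hx, hxa⟩ := hs a ha0
      exact hxa (ha x hx)
  -- nonabelian case
  push Not at hab
  obtain ⟨x0, hx0, y0, hy0, hxy⟩ := hab
  have hz0 : ⁅x0, y0⁆ ≠ 1 := fun h => hxy (commutatorElement_eq_one_iff_mul_comm.1 h)
  by_cases hfix : ∃ z ∈ C1, z ≠ 1 ∧ ∃ s : E, s ≠ 0 ∧ z • s = s
  · obtain ⟨z, hz, hz1, s, hs0, hzs⟩ := hfix
    have hzQ : (Q : Set D) ⊆ (Subgroup.centralizer ({z} : Set D) : Set D) := fun x hx =>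
      Subgroup.mem_centralizer_singleton_iff.2 (hC1c x hx z hz)
    obtain ⟨Rn, Rk, hkn, hnQ, hRk, hcR, hcRn, hcomm, -, -⟩ :=
      semilinear_exponent_p _ (hloc z s hz1 hs0 hzs) hinv Q hzQ hexp
    have hkQ : Rk ≤ Q := hkn.trans hnQ
    have hinvar : ∀ y : D, y * z = z * y → (∀ x ∈ Q, y * x * y⁻¹ ∈ Q) →
        ∀ x ∈ Rk, y * x * y⁻¹ ∈ Rk := by
      intro y hyz hyQ x hx
      refine (hRk _).2 ⟨hyQ x (hkQ hx), fun a ha => ?_⟩
      have hy' : z • y⁻¹ • a = y⁻¹ • a := by
        rw [smul_smul, ← ((show Commute y z from hyz).inv_left).eq, mul_smul,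
          show z • a = a from ha]
      rw [mul_smul, mul_smul, ((hRk x).1 hx).2 _ hy', smul_inv_smul]
    have hgz : g * z = z * g := hprop C1 hC1Q hC1ne hgC1 z hz
    have hQn : ∀ y ∈ Q, ∀ x ∈ Rk, y * x * y⁻¹ ∈ Rk := fun y hy =>
      hinvar y (hC1c y hy z hz) fun x hx => mul_mem (mul_mem hy hx) (inv_mem hy)
    have hkeq : Rk = Q := hnotin Rk hkQ (absorb hp2 hpq hQ hkQ hQn hg hgQ (hinvar g hgz hgQ) (by
      calc Nat.card Q ≤ p * Nat.card Rn := hcR
        _ ≤ p * (p * Nat.card Rk) := Nat.mul_le_mul_left p hcRn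
        _ = _ := by ring))
    have hsQ : ∀ x ∈ Q, x • s = s := fun x hx => ((hRk x).1 (hkeq.ge hx)).2 s hzs
    let Zc : Subgroup D := Q ⊓ Subgroup.centralizer (Q : Set D)
    have hZmem : ∀ a b, a ∈ Zc → b ∈ Q → a * b = b * a := fun a b ha hb =>
      ((Subgroup.mem_centralizer_iff.1 ha.2) b hb).symm
    have hC1Z : C1 ≤ Zc := fun x hx => ⟨hC1Q hx,
      Subgroup.mem_centralizer_iff.2 fun y hy => hC1c y hy x hx⟩
    have hy0Z : y0 ∉ Zc := fun h => hxy (hZmem y0 x0 h hx0).symm
    let A : Subgroup D := Subgroup.closure ((Zc : Set D) ∪ {y0})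
    have hA2 : Nat.card A ≤ p ^ 2 := by
      have hAQ : A ≤ Q := (Subgroup.closure_le _).2 (Set.union_subset (fun x hx => hx.1)
        (Set.singleton_subset_iff.2 hy0))
      refine card_le_sq_of_fixed hinv hloc A (commute_closure ?_) (fun x hx => hexp x (hAQ hx)) hs0
        (fun x hx => hsQ x (hAQ hx))
      rintro a (ha | rfl) b (hb | rfl)
      · exact hZmem a b ha hb.1
      · exact hZmem a _ ha hy0
      · exact (hZmem b _ hb hy0).symm
      · rfl
    have hZA : Zc ≤ A := fun x hx => Subgroup.subset_closure (Or.inl hx)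
    have hyA : y0 ∈ A := Subgroup.subset_closure (Or.inr rfl)
    have hAQ : A ≤ Q := (Subgroup.closure_le _).2 (Set.union_subset (fun x hx => hx.1)
      (Set.singleton_subset_iff.2 hy0))
    have hZne : Zc ≠ A := fun h => hy0Z (h.ge hyA)
    have hpZ := mul_card_le_of_ne (fun x hx => hexp x (hAQ hx)) hZA hZne
    have hZp : Nat.card Zc ≤ p := Nat.le_of_mul_le_mul_left ((hpZ.trans hA2).trans (pow_two p).le) hp.out.pos
    let Cy : Subgroup D := Q ⊓ Subgroup.centralizer ({y0} : Set D)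
    have hCy : Cy ≤ A := by
      intro w hw
      let A' : Subgroup D := Subgroup.closure ((Zc : Set D) ∪ {y0, w})
      have hA'Q : A' ≤ Q := (Subgroup.closure_le _).2 (Set.union_subset (fun x hx => hx.1)
        (Set.insert_subset_iff.2 ⟨hy0, Set.singleton_subset_iff.2 hw.1⟩))
      have hwy : w * y0 = y0 * w := Subgroup.mem_centralizer_singleton_iff.1 hw.2
      have hA'2 : Nat.card A' ≤ p ^ 2 := by
        refine card_le_sq_of_fixed hinv hloc A' (commute_closure ?_) (fun x hx => hexp x (hA'Q hx)) hs0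
          (fun x hx => hsQ x (hA'Q hx))
        rintro a (ha | rfl | rfl) b (hb | rfl | rfl)
        · exact hZmem a b ha hb.1
        · exact hZmem a _ ha hy0
        · exact hZmem a _ ha hw.1
        · exact (hZmem b _ hb hy0).symm
        · rfl
        · exact hwy.symm
        · exact (hZmem b _ hb hw.1).symm
        · exact hwy
        · rfl
      have hAA' : A ≤ A' := Subgroup.closure_mono (Set.union_subset_union_right _ (by simp))
      have hZ1 : 1 < Nat.card Zc := by
        refine Finite.one_lt_card_iff_nontrivial.2 ⟨⟨⟨_, hC1Z (hC1mem x0 hx0 y0 hy0)⟩, 1, ?_⟩⟩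
        exact fun h => hz0 (Subtype.ext_iff.1 h)
      have hpA : p ^ 2 ≤ Nat.card A := by
        have hpz : p ≤ Nat.card Zc := by
          obtain ⟨k, hk⟩ := (hQ.to_le (inf_le_left : Zc ≤ Q)).exists_card_eq
          rw [hk] at hZ1 ⊢
          exact Nat.le_self_pow (fun h => by simp [h] at hZ1) p
        calc p ^ 2 = p * p := pow_two p
          _ ≤ p * Nat.card Zc := Nat.mul_le_mul_left p hpz
          _ ≤ _ := hpZ
      rw [Subgroup.eq_of_le_of_card_ge hAA' (hA'2.trans hpA)]
      exact Subgroup.subset_closure (Or.inr (Or.inr rfl))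
    have hcardQ : Nat.card Q ≤ p ^ 2 * Nat.card Zc := by
      have h1 := card_le_mul_centralizer (C := Q) (Z := Zc) le_rfl hy0 hcl
        (fun a ha b hb => hC1Z (hC1mem a ha b hb))
      calc Nat.card Q ≤ Nat.card Zc * Nat.card Cy := h1
        _ ≤ Nat.card Zc * p ^ 2 := Nat.mul_le_mul_left _ ((Subgroup.card_le_of_le hCy).trans hA2)
        _ = _ := by ring
    have hgZ : ∀ x ∈ Zc, g * x * g⁻¹ ∈ Zc := fun x hx => ⟨hgQ x hx.1,
      Subgroup.mem_centralizer_iff.2 fun y hy => by
        have hsur : ∃ w ∈ Q, g * w * g⁻¹ = y := by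
          have hinj : Function.Injective (fun w : Q => (⟨g * w * g⁻¹, hgQ w w.2⟩ : Q)) := fun a b h => by
            simpa using Subtype.ext_iff.1 h
          obtain ⟨w, hw⟩ := Finite.surjective_of_injective hinj ⟨y, hy⟩
          exact ⟨w, w.2, Subtype.ext_iff.1 hw⟩
        obtain ⟨w, hw, rfl⟩ := hsur
        calc g * w * g⁻¹ * (g * x * g⁻¹) = g * (w * x) * g⁻¹ := by group
          _ = g * (x * w) * g⁻¹ := by rw [hZmem x w hx hw]
          _ = _ := by group⟩
    have hZn : ∀ x ∈ Q, ∀ y ∈ Zc, x * y * x⁻¹ ∈ Zc := fun x hx y hy => by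
      rwa [← hZmem y x hy hx, mul_inv_cancel_right]
    exact hy0Z ((hnotin Zc inf_le_left
      (absorb hp2 hpq hQ inf_le_left hZn hg hgQ hgZ hcardQ)).ge hy0)
  -- every nonidentity element of the derived group is fixed-point-free
  push Not at hfix
  have hC1comm : ∀ x ∈ C1, ∀ y ∈ C1, x * y = y * x := fun x hx y hy => hC1c x (hC1Q hx) y hy
  have hC1p : Nat.card C1 ≤ p := by
    by_contra hlt
    obtain ⟨H, hH, hc, a, ha, hma⟩ :=
      exists_hyperplane hinv C1 hC1comm (fun x hx => hexp x (hC1Q hx)) (hC1mem x0 hx0 y0 hy0) hz0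
    obtain ⟨w, hw, hw1⟩ : ∃ w ∈ H, w ≠ 1 := by
      by_contra hcon
      push Not at hcon
      rw [(Subgroup.eq_bot_iff_forall H).2 hcon, Subgroup.card_bot, mul_one] at hc
      omega
    exact hfix w (hH hw) hw1 a (fun h => hma (by rw [h, smul_zero])) (ha w hw)
  let B : Subgroup D := Subgroup.closure ((C1 : Set D) ∪ {y0})
  have hBQ : B ≤ Q := (Subgroup.closure_le _).2 (Set.union_subset (fun x hx => hC1Q hx)
    (Set.singleton_subset_iff.2 hy0))
  have hBcomm : ∀ x ∈ B, ∀ y ∈ B, x * y = y * x := by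
    refine commute_closure ?_
    rintro a (ha | rfl) b (hb | rfl)
    · exact hC1comm a ha b hb
    · exact (hC1c _ hy0 a ha).symm
    · exact hC1c _ hy0 b hb
    · rfl
  obtain ⟨H, hH, hc, a, ha, hma⟩ := exists_hyperplane hinv B hBcomm (fun x hx => hexp x (hBQ hx))
    (Subgroup.subset_closure (Or.inl (hC1mem x0 hx0 y0 hy0))) hz0
  have ha0 : a ≠ 0 := fun h => hma (by rw [h, smul_zero])
  obtain ⟨u, hu, hu1⟩ : ∃ u ∈ H, u ≠ 1 := by
    by_contra hcon
    push Not at hcon
    rw [(Subgroup.eq_bot_iff_forall H).2 hcon, Subgroup.card_bot, mul_one] at hc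
    have hCB : C1 ≤ B := fun x hx => Subgroup.subset_closure (Or.inl hx)
    have hne : C1 ≠ B := fun h => hxy (by
      have hy1 : y0 ∈ C1 := h.ge (Subgroup.subset_closure (Or.inr rfl))
      exact hC1c x0 hx0 y0 hy1)
    have h1 := mul_card_le_of_ne (fun x hx => hexp x (hBQ hx)) hCB hne
    have h2 : 1 < Nat.card C1 := Finite.one_lt_card_iff_nontrivial.2
      ⟨⟨⟨_, hC1mem x0 hx0 y0 hy0⟩, 1, fun h => hz0 (Subtype.ext_iff.1 h)⟩⟩
    have := hp.out.two_le
    nlinarith
  have huQ : u ∈ Q := hBQ (hH hu)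
  let C : Subgroup D := Q ⊓ Subgroup.centralizer ({u} : Set D)
  have hQC : Nat.card Q ≤ p * Nat.card C :=
    (card_le_mul_centralizer (C := Q) (Z := C1) le_rfl huQ hcl hC1mem).trans (Nat.mul_le_mul_right _ hC1p)
  obtain ⟨Rn, Rk, -, -, -, -, -, hcommC, -, -⟩ := semilinear_exponent_p _
    (hloc u a hu1 ha0 (ha u hu)) hinv C (fun x hx => hx.2) (fun x hx => hexp x hx.1)
  have hCab : ∀ x ∈ C, ∀ y ∈ C, x * y = y * x := fun x hx y hy =>
    commutatorElement_eq_one_iff_mul_comm.1 (by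
      by_contra hne
      exact hfix _ (hC1mem x hx.1 y hy.1) hne a ha0 (hcommC x hx y hy a (ha u hu)))
  obtain ⟨x1, hx1, hx1C⟩ : ∃ x1 ∈ Q, x1 ∉ C := by
    by_contra hcon
    push Not at hcon
    exact hxy (hCab x0 (hcon x0 hx0) y0 (hcon y0 hy0))
  let C2 : Subgroup D := C ⊓ Subgroup.centralizer ({x1} : Set D)
  have hCC2 : Nat.card C ≤ p * Nat.card C2 :=
    (card_le_mul_centralizer (C := C) (Z := C1) inf_le_left hx1 hcl hC1mem).trans
      (Nat.mul_le_mul_right _ hC1p)
  let Zc : Subgroup D := Q ⊓ Subgroup.centralizer (Q : Set D)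
  have hgenQ : Subgroup.closure ((C : Set D) ∪ {x1}) = Q := by
    have hle : Subgroup.closure ((C : Set D) ∪ {x1}) ≤ Q := (Subgroup.closure_le _).2
      (Set.union_subset (fun x hx => hx.1) (Set.singleton_subset_iff.2 hx1))
    refine Subgroup.eq_of_le_of_card_ge hle (hQC.trans ?_)
    exact mul_card_le_of_ne (fun x hx => hexp x (hle hx))
      (fun x hx => Subgroup.subset_closure (Or.inl hx))
      (fun h => hx1C (h.ge (Subgroup.subset_closure (Or.inr rfl))))
  have hC2Z : C2 ≤ Zc := fun w hw => by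
    refine ⟨hw.1.1, Subgroup.mem_centralizer_iff.2 fun y hy => ?_⟩
    have hle : Subgroup.closure ((C : Set D) ∪ {x1}) ≤ Subgroup.centralizer ({w} : Set D) := by
      rw [Subgroup.closure_le]
      rintro b (hb | rfl)
      · exact Subgroup.mem_centralizer_singleton_iff.2 (hCab b hb w hw.1)
      · exact Subgroup.mem_centralizer_singleton_iff.2
          (Subgroup.mem_centralizer_singleton_iff.1 hw.2).symm
    exact Subgroup.mem_centralizer_singleton_iff.1 (hle (hgenQ.ge hy))
  have hZmem : ∀ a b, a ∈ Zc → b ∈ Q → a * b = b * a := fun a b ha hb =>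
    ((Subgroup.mem_centralizer_iff.1 ha.2) b hb).symm
  have hgZ : ∀ x ∈ Zc, g * x * g⁻¹ ∈ Zc := fun x hx => ⟨hgQ x hx.1,
    Subgroup.mem_centralizer_iff.2 fun y hy => by
      have hinj : Function.Injective (fun w : Q => (⟨g * w * g⁻¹, hgQ w w.2⟩ : Q)) := fun a b h => by
        simpa using Subtype.ext_iff.1 h
      obtain ⟨w, hw⟩ := Finite.surjective_of_injective hinj ⟨y, hy⟩
      obtain rfl : g * w * g⁻¹ = y := Subtype.ext_iff.1 hw
      calc g * w * g⁻¹ * (g * x * g⁻¹) = g * ((w : D) * x) * g⁻¹ := by group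
        _ = g * (x * (w : D)) * g⁻¹ := by rw [hZmem x w hx w.2]
        _ = _ := by group⟩
  have hcardQ : Nat.card Q ≤ p ^ 2 * Nat.card Zc := by
    calc Nat.card Q ≤ p * Nat.card C := hQC
      _ ≤ p * (p * Nat.card C2) := Nat.mul_le_mul_left p hCC2
      _ ≤ p * (p * Nat.card Zc) :=
          Nat.mul_le_mul_left p (Nat.mul_le_mul_left p (Subgroup.card_le_of_le hC2Z))
      _ = _ := by ring
  have hZn : ∀ x ∈ Q, ∀ y ∈ Zc, x * y * x⁻¹ ∈ Zc := fun x hx y hy => by
    rwa [← hZmem y x hy hx, mul_inv_cancel_right]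
  have hZQ := hnotin Zc inf_le_left (absorb hp2 hpq hQ inf_le_left hZn hg hgQ hgZ hcardQ)
  exact hxy (hZmem x0 y0 (hZQ.ge hx0) hy0)

/-- for the smallest prime `p` of a subgroup, elements prime to `p` centralise the `p`-subgroups they
normalise -/
theorem centralizes_of_coprime {p : ℕ} [hp : Fact p.Prime] (hp2 : p ≠ 2)
    (hinv : ∀ a : E, p • a = 0 → a = 0) (hloc : LocallySemilinear D E) {Q : Subgroup D}
    (hQ : IsPGroup p Q) :
    ∀ (m : ℕ) (g : D), orderOf g = m → m.Coprime p → (∀ r, r.Prime → r ∣ m → p ≤ r) →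
      (∀ x ∈ Q, g * x * g⁻¹ ∈ Q) → ∀ x ∈ Q, g * x = x * g := by
  intro m
  induction m using Nat.recOnPosPrimePosCoprime with
  | prime_pow r k hr hk =>
    intro g hg hcop hle hgQ
    haveI := Fact.mk hr
    have hpr : p ≠ r := fun h => by
      subst h
      exact hp.out.ne_one (Nat.Coprime.eq_one_of_dvd hcop.symm (dvd_pow_self p hk.ne'))
    exact centralizes_of_lt hp2 (lt_of_le_of_ne (hle r hr (dvd_pow_self r hk.ne')) hpr) hinv hloc
      (n := k) (hg ▸ pow_orderOf_eq_one g) _ Q rfl hQ hgQ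
  | zero => intro g hg; exact absurd hg (orderOf_pos g).ne'
  | one => intro g hg _ _ _ x _; rw [orderOf_eq_one_iff.1 hg, one_mul, mul_one]
  | coprime a b ha hb hab iha ihb =>
    intro g hg hcop hle hgQ x hx
    have hconj : ∀ k : ℕ, ∀ y ∈ Q, g ^ k * y * (g ^ k)⁻¹ ∈ Q := by
      intro k
      induction k with
      | zero => intro y hy; simpa using hy
      | succ k ihk =>
        intro y hy
        have := hgQ _ (ihk y hy)
        rw [pow_succ']
        convert this using 1
        group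
    have h1 := iha (g ^ b) (by
      rw [orderOf_pow, hg, Nat.gcd_eq_right (dvd_mul_left b a), Nat.mul_div_cancel _ (by omega)])
      hcop.coprime_mul_right (fun r hr hd => hle r hr (hd.trans (dvd_mul_right a b))) (hconj b) x hx
    have h2 := ihb (g ^ a) (by
      rw [orderOf_pow, hg, Nat.gcd_eq_right (dvd_mul_right a b), Nat.mul_div_cancel_left _ (by omega)])
      hcop.coprime_mul_left (fun r hr hd => hle r hr (hd.trans (dvd_mul_left b a))) (hconj a) x hx
    have hbez := Nat.gcd_eq_gcd_ab a b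
    rw [hab.gcd_eq_one, Nat.cast_one] at hbez
    have hg' : g = (g ^ a) ^ Nat.gcdA a b * (g ^ b) ^ Nat.gcdB a b := by
      rw [← zpow_natCast g a, ← zpow_natCast g b, ← zpow_mul, ← zpow_mul, ← zpow_add, ← hbez, zpow_one]
    rw [hg']
    exact ((show Commute (g ^ a) x from h2).zpow_left _).mul_left
      ((show Commute (g ^ b) x from h1).zpow_left _)

/-- solvability -/
theorem isSolvable_of_locallySemilinear (hodd : Odd (Nat.card D)) (h2 : ∀ a : E, 2 • a = 0)
    (hloc : LocallySemilinear D E) : Group.IsSolvable D := by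
  suffices h : ∀ (N : ℕ) (H : Subgroup D), Nat.card H = N → Group.IsSolvable H by
    haveI := h _ ⊤ rfl
    exact Group.isSolvable_of_surjective (f := (Subgroup.topEquiv : (⊤ : Subgroup D) ≃* D).toMonoidHom)
      (Subgroup.topEquiv : (⊤ : Subgroup D) ≃* D).surjective
  intro N
  induction N using Nat.strong_induction_on with
  | _ N ih =>
  intro H hN
  rcases subsingleton_or_nontrivial H with hss | hnt
  · infer_instance
  set p := (Nat.card H).minFac with hp_def
  have h1 : 1 < Nat.card H := Finite.one_lt_card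
  haveI hp : Fact p.Prime := ⟨Nat.minFac_prime h1.ne'⟩
  have hpH : p ∣ Nat.card H := Nat.minFac_dvd _
  have hp2 : p ≠ 2 := fun h => by
    have h2' : 2 ∣ Nat.card D := (h ▸ hpH).trans H.card_subgroup_dvd_card
    rw [← even_iff_two_dvd] at h2'
    exact (Nat.not_even_iff_odd.2 hodd) h2'
  have hinv : ∀ a : E, p • a = 0 → a = 0 := by
    intro a ha
    obtain ⟨k, hk⟩ := hp.out.odd_of_ne_two hp2
    rwa [hk, add_smul, one_smul, mul_comm, mul_smul, h2, smul_zero, zero_add] at ha
  have hfc : Transfer.FrobeniusCond p H := by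
    intro Q hQ g hg hc
    refine Subgroup.mem_centralizer_iff.2 fun y hy => Subtype.ext ?_
    refine (centralizes_of_coprime hp2 hinv hloc (hQ.map H.subtype) (orderOf g) g
      (Subgroup.orderOf_coe g) hc (fun r hr hd => ?_) ?_ _ (Subgroup.mem_map_of_mem _ hy)).symm
    · exact Nat.minFac_le_of_dvd hr.two_le (hd.trans (orderOf_dvd_natCard g))
    · rintro _ ⟨z, hz, rfl⟩
      exact ⟨g * z * g⁻¹, (Subgroup.mem_set_normalizer_iff.1 hg z).1 hz, rfl⟩
  have hnpc := Transfer.hasNormalPComplement_iff.1 (Transfer.hasNormalPComplement_of_frobeniusCond hfc)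
  set R := Cfsg.pResidual p H with hR
  haveI : R.Normal := Transfer.pResidual_normal
  have hlt : Nat.card (R.map H.subtype) < N := by
    rw [← hN, Subgroup.card_map_of_injective H.subtype_injective]
    exact lt_of_le_of_ne (Nat.le_of_dvd Nat.card_pos R.card_subgroup_dvd_card) fun h => hnpc (h ▸ hpH)
  haveI := ih _ hlt (R.map H.subtype) rfl
  haveI hRs : Group.IsSolvable R := Group.isSolvable_of_isSolvable_injective
    (f := (R.equivMapOfInjective H.subtype H.subtype_injective).toMonoidHom)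
    (R.equivMapOfInjective H.subtype H.subtype_injective).injective
  haveI : Group.IsNilpotent (H ⧸ R) :=
    (Transfer.isPGroup_quotient_of_pResidual_le R le_rfl).isNilpotent
  haveI : Group.IsSolvable (H ⧸ R) := inferInstance
  exact Group.isSolvable_of_ker_le_range R.subtype (QuotientGroup.mk' R) (by simp)

end CfsgLib.TransOdd
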