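import Cfsg.Agent.Lib.ConstStab.Basic

/-!
Subgroups of exponent p acting semilinearly on a one-dimensional space over a finite field, and the
hyperplane lemmas for elementary abelian groups acting coprimely.
-/

set_option autoImplicit false

namespace CfsgLib.TransOdd

open CfsgLib.ConstStab (avg avg_apply avg_of_fixed smul_avg_self smul_avg eq_of_nsmul_eq avg_smul_self)

universe u v

variable {D : Type u} [Group D] {E : Type v} [AddCommGroup E] [DistribMulAction D E]

/-- the vectors fixed by `b` -/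
def fixedAdd (b : D) : AddSubgroup E where
  carrier := {a | b • a = a}
  add_mem' := fun {x y} hx hy => by
    show b • (x + y) = x + y
    rw [smul_add, show b • x = x from hx, show b • y = y from hy]
  zero_mem' := smul_zero b
  neg_mem' := fun {x} hx => by show b • (-x) = -x; rw [smul_neg, show b • x = x from hx]

omit [DistribMulAction D E] in
/-- `S` acts on `X` by semilinear maps of a field structure of dimension one -/
def IsSemilinearOn [DistribMulAction D E] (X : AddSubgroup E) (S : Set D) : Prop :=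
  ∃ (L : Type v) (_ : Field L) (_ : Finite L) (e : L →+ E), Function.Injective e ∧ e.range = X ∧
    ∀ g ∈ S, ∃ (α : L) (σ : L ≃+* L), ∀ l : L, g • e l = e (α * σ l)

theorem isCyclic_ringEquiv (L : Type v) [Field L] [Finite L] : IsCyclic (L ≃+* L) := by
  obtain ⟨q, hq⟩ := CharP.exists L
  haveI := hq
  haveI : Fact q.Prime := ⟨CharP.char_is_prime L q⟩
  letI : Algebra (ZMod q) L := ZMod.algebra L q
  let f : Gal(L/ZMod q) →* (L ≃+* L) :=
    { toFun := fun σ => σ.toRingEquiv
      map_one' := rfl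
      map_mul' := fun _ _ => rfl }
  refine isCyclic_of_surjective f fun σ => ⟨AlgEquiv.ofRingEquiv (f := σ) (fun z => ?_), ?_⟩
  · exact RingHom.congr_fun (RingHom.ext_zmod ((σ : L →+* L).comp (algebraMap (ZMod q) L))
      (algebraMap (ZMod q) L)) z
  · ext; rfl

/-- in a finite cyclic group the elements killed by `p` form a subgroup of order at most `p` -/
theorem card_le_of_pow_eq_one {A : Type v} [Group A] [Finite A] [IsCyclic A] {p : ℕ} (hp : 0 < p)
    (S : Subgroup A) (h : ∀ x ∈ S, x ^ p = 1) : Nat.card S ≤ p := by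
  obtain ⟨g, hg⟩ := IsCyclic.exists_generator (α := S)
  rw [← orderOf_eq_card_of_forall_mem_zpowers hg]
  exact Nat.le_of_dvd hp (orderOf_dvd_of_pow_eq_one (Subtype.ext (by simpa using h g g.2)))

open scoped commutatorElement Pointwise

variable {p : ℕ}

/-- structure of an exponent-`p` group acting semilinearly on `X` -/
theorem semilinear_exponent_p [Finite D] [hp : Fact p.Prime] (X : AddSubgroup E) {S : Set D}
    (hsl : IsSemilinearOn X S) (hinv : ∀ a : E, p • a = 0 → a = 0) (R : Subgroup D)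
    (hRS : (R : Set D) ⊆ S) (hexp : ∀ x ∈ R, x ^ p = 1) :
    ∃ Rn Rk : Subgroup D, Rk ≤ Rn ∧ Rn ≤ R ∧ (∀ x, x ∈ Rk ↔ x ∈ R ∧ ∀ a ∈ X, x • a = a) ∧
      Nat.card R ≤ p * Nat.card Rn ∧ Nat.card Rn ≤ p * Nat.card Rk ∧
      (∀ x ∈ R, ∀ y ∈ R, ∀ a ∈ X, ⁅x, y⁆ • a = a) ∧
      (∀ x ∈ Rn, x ∉ Rk → ∀ a ∈ X, x • a = a → a = 0) ∧
      ((∃ a ∈ X, a ≠ 0) → ∀ x ∈ R, x ∉ Rn → ∃ a ∈ X, a ≠ 0 ∧ x • a = a) := by
  classical
  obtain ⟨L, hF, hfin, e, he, hrange, hact⟩ := hsl
  have hex : ∀ x : R, ∃ (α : L) (σ : L ≃+* L), ∀ l : L, (x : D) • e l = e (α * σ l) :=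
    fun x => hact x (hRS x.2)
  choose α σ hασ using hex
  have hmemX : ∀ a, a ∈ X ↔ ∃ l, e l = a := fun a => by rw [← hrange]; rfl
  have huniq : ∀ (x : R) (β : L) (τ : L ≃+* L), (∀ l, (x : D) • e l = e (β * τ l)) →
      β = α x ∧ τ = σ x := by
    intro x β τ h
    have h1 : β = α x := by
      have := he ((h 1).symm.trans (hασ x 1))
      simpa using this
    have hαne : α x ≠ 0 := fun h0 => by
      have := hασ x 1
      rw [h0, zero_mul, map_zero, smul_eq_zero_iff_eq] at this
      exact one_ne_zero (he (this.trans (map_zero e).symm))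
    refine ⟨h1, RingEquiv.ext fun l => ?_⟩
    have := he ((h l).symm.trans (hασ x l))
    rw [h1] at this
    exact mul_left_cancel₀ hαne this
  have hmul : ∀ x y : R, α (x * y) = α x * σ x (α y) ∧ σ (x * y) = σ x * σ y := by
    intro x y
    obtain ⟨h1, h2⟩ := huniq (x * y) (α x * σ x (α y)) (σ x * σ y) (fun l => by
      rw [Subgroup.coe_mul, mul_smul, hασ y, hασ x, map_mul (σ x), mul_assoc]
      rfl)
    exact ⟨h1.symm, h2.symm⟩
  have hone : α 1 = 1 ∧ σ 1 = 1 := by
    obtain ⟨h1, h2⟩ := huniq 1 1 1 (fun l => by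
      rw [Subgroup.coe_one, one_smul, one_mul]; rfl)
    exact ⟨h1.symm, h2.symm⟩
  let π : R →* (L ≃+* L) := { toFun := σ, map_one' := hone.2, map_mul' := fun x y => (hmul x y).2 }
  let ψ : π.ker →* L :=
    { toFun := fun x => α x
      map_one' := hone.1
      map_mul' := fun x y => by
        rw [Subgroup.coe_mul, (hmul x y).1]
        rw [show σ (x : R) = 1 from x.2]
        rfl }
  haveI := isCyclic_ringEquiv L
  haveI : Finite (L ≃+* L) :=
    Finite.of_injective (fun s : L ≃+* L => (s : L → L)) DFunLike.coe_injective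
  haveI : Fintype L := Fintype.ofFinite L
  haveI : IsCyclic Lˣ := inferInstance
  have hπ : Nat.card R ≤ p * Nat.card π.ker := by
    rw [← Subgroup.card_mul_index π.ker, Subgroup.index_ker, mul_comm]
    refine Nat.mul_le_mul_right _ (card_le_of_pow_eq_one hp.out.pos _ ?_)
    rintro _ ⟨x, rfl⟩
    rw [← map_pow, show x ^ p = 1 from Subtype.ext (by simpa using hexp x x.2), map_one]
  have hψ : Nat.card π.ker ≤ p * Nat.card ψ.toHomUnits.ker := by
    rw [← Subgroup.card_mul_index ψ.toHomUnits.ker, Subgroup.index_ker, mul_comm]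
    refine Nat.mul_le_mul_right _ (card_le_of_pow_eq_one hp.out.pos _ ?_)
    rintro _ ⟨x, rfl⟩
    rw [← map_pow, show x ^ p = 1 from Subtype.ext (Subtype.ext (by simpa using hexp (x : R) (x : R).2)),
      map_one]
  refine ⟨π.ker.map R.subtype, (ψ.toHomUnits.ker.map π.ker.subtype).map R.subtype,
    Subgroup.map_mono (Subgroup.map_subtype_le _), Subgroup.map_subtype_le _, ?_, ?_, ?_, ?_, ?_, ?_⟩
  · intro x
    constructor
    · rintro ⟨y, ⟨⟨z, hzπ⟩, hz, rfl⟩, rfl⟩
      refine ⟨z.2, fun a ha => ?_⟩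
      obtain ⟨l, rfl⟩ := (hmemX a).1 ha
      show (z : D) • e l = e l
      have hz' : α z = 1 := congrArg Units.val (MonoidHom.mem_ker.1 hz)
      rw [hασ z l, show σ z = 1 from hzπ, hz', one_mul]
      rfl
    · rintro ⟨hxR, hfix⟩
      obtain ⟨h1, h2⟩ := huniq ⟨x, hxR⟩ 1 1 (fun l => by
        show x • e l = _
        rw [hfix _ ((hmemX _).2 ⟨l, rfl⟩), one_mul]; rfl)
      refine ⟨⟨x, hxR⟩, ⟨⟨⟨x, hxR⟩, h2.symm⟩, ?_, rfl⟩, rfl⟩
      exact MonoidHom.mem_ker.2 (Units.ext h1.symm)
  · rwa [Subgroup.card_map_of_injective R.subtype_injective]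
  · rw [Subgroup.card_map_of_injective R.subtype_injective,
      Subgroup.card_map_of_injective R.subtype_injective,
      Subgroup.card_map_of_injective π.ker.subtype_injective]
    exact hψ
  · intro x hx y hy a ha
    -- the image has order at most p², so it is abelian
    let K0 : Subgroup R := ψ.toHomUnits.ker.map π.ker.subtype
    have hK0 : ∀ z : R, z ∈ K0 ↔ ∀ l, (z : D) • e l = e l := by
      intro z
      constructor
      · rintro ⟨⟨w, hwπ⟩, hw, rfl⟩ l
        have hw' : α w = 1 := congrArg Units.val (MonoidHom.mem_ker.1 hw)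
        show (w : D) • e l = e l
        rw [hασ w l, show σ w = 1 from hwπ, hw', one_mul]; rfl
      · intro h
        obtain ⟨h1, h2⟩ := huniq z 1 1 (fun l => by rw [h l, one_mul]; rfl)
        exact ⟨⟨z, h2.symm⟩, MonoidHom.mem_ker.2 (Units.ext h1.symm), rfl⟩
    haveI hK0n : K0.Normal := ⟨fun z hz g => (hK0 _).2 fun l => by
      have hg : (g : D)⁻¹ • e l ∈ X := (hmemX _).2 (by
        refine ⟨α g⁻¹ * σ g⁻¹ l, ?_⟩
        rw [← Subgroup.coe_inv, hασ g⁻¹ l])
      obtain ⟨l', hl'⟩ := (hmemX _).1 hg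
      rw [Subgroup.coe_mul, Subgroup.coe_mul, Subgroup.coe_inv, mul_smul, mul_smul, ← hl', (hK0 z).1 hz,
        hl', smul_inv_smul]⟩
    have hq : IsPGroup p (R ⧸ K0) := by
      intro z
      refine ⟨1, QuotientGroup.induction_on z fun w => ?_⟩
      rw [pow_one, ← QuotientGroup.mk_pow, show w ^ p = 1 from Subtype.ext (by simpa using hexp w w.2),
        QuotientGroup.mk_one]
    have hcard : Nat.card (R ⧸ K0) ∣ p ^ 2 := by
      obtain ⟨n, hn⟩ := hq.exists_card_eq
      rw [hn]
      refine pow_dvd_pow p ?_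
      have h1 : Nat.card R ≤ p ^ 2 * Nat.card K0 := by
        rw [Subgroup.card_map_of_injective π.ker.subtype_injective]
        calc Nat.card R ≤ p * Nat.card π.ker := hπ
          _ ≤ p * (p * Nat.card ψ.toHomUnits.ker) := Nat.mul_le_mul_left p hψ
          _ = _ := by ring
      rw [← Subgroup.card_mul_index K0, Subgroup.index, hn, mul_comm] at h1
      exact (Nat.pow_le_pow_iff_right hp.out.one_lt).1 (Nat.le_of_mul_le_mul_right h1 Nat.card_pos)
    have hcomm : ∀ z w : R ⧸ K0, z * w = w * z := by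
      obtain ⟨n, hn, hn'⟩ := (Nat.dvd_prime_pow hp.out).1 hcard
      interval_cases n
      · intro z w
        haveI : Subsingleton (R ⧸ K0) := (Nat.card_eq_one_iff_unique.1 (by simpa using hn')).1
        exact Subsingleton.elim _ _
      · haveI := isCyclic_of_prime_card (α := R ⧸ K0) (p := p) (by simpa using hn')
        exact mul_comm'
      · haveI := IsPGroup.isMulCommutative_of_card_eq_prime_sq (G := R ⧸ K0) (p := p) hn'
        exact mul_comm'
    have hc : ⁅(⟨x, hx⟩ : R), (⟨y, hy⟩ : R)⁆ ∈ K0 := by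
      rw [← QuotientGroup.eq_one_iff]
      show (QuotientGroup.mk' K0) ⁅(⟨x, hx⟩ : R), (⟨y, hy⟩ : R)⁆ = 1
      rw [map_commutatorElement, commutatorElement_eq_one_iff_mul_comm]
      exact hcomm _ _
    obtain ⟨l, rfl⟩ := (hmemX a).1 ha
    exact (hK0 _).1 hc l
  · rintro x ⟨z, hz, rfl⟩ hxk a ha hxa
    obtain ⟨l, rfl⟩ := (hmemX a).1 ha
    have : α z ≠ 1 := by
      intro h
      refine hxk ⟨z, ⟨⟨z, hz⟩, ?_, rfl⟩, rfl⟩
      exact MonoidHom.mem_ker.2 (Units.ext h)
    have h1 : α z * l = l := by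
      apply he
      have h2 : (z : D) • e l = e l := hxa
      rw [hασ z l, show σ z = 1 from hz] at h2
      exact h2
    have : l = 0 := by
      by_contra hl
      exact this (mul_right_cancel₀ hl (h1.trans (one_mul l).symm))
    rw [this, map_zero]
  · rintro ⟨a₀, -, ha₀⟩ x hx hxn
    set z : R := ⟨x, hx⟩ with hz
    have hσ1 : σ z ≠ 1 := fun h => hxn ⟨z, h, rfl⟩
    have hzp : z ^ p = 1 := Subtype.ext (by simpa using hexp x hx)
    have hord : orderOf (σ z) = p := by
      refine orderOf_eq_prime ?_ hσ1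
      show (π z) ^ p = 1
      rw [← map_pow, hzp, map_one]
    -- the sum of the first p powers is nonzero by independence of automorphisms
    have hne : ∃ l : L, ∑ k : Fin p, α (z ^ (k : ℕ)) * (σ z ^ (k : ℕ)) l ≠ 0 := by
      by_contra hall
      push Not at hall
      have hinj : Function.Injective (fun k : Fin p => ((σ z ^ (k : ℕ) : L ≃+* L) : L →+* L).toMonoidHom) := by
        intro i j h
        have h1 : σ z ^ (i : ℕ) = σ z ^ (j : ℕ) := RingEquiv.ext fun l => DFunLike.congr_fun h l
        have h2 := pow_inj_mod.1 h1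
        rw [hord, Nat.mod_eq_of_lt i.2, Nat.mod_eq_of_lt j.2] at h2
        exact Fin.ext h2
      have hli := (linearIndependent_monoidHom L L).comp _ hinj
      have := Fintype.linearIndependent_iff.1 hli (fun k : Fin p => α (z ^ (k : ℕ))) (by
        funext l
        simpa using hall l) ⟨0, hp.out.pos⟩
      simp [hone.1] at this
    obtain ⟨l, hl⟩ := hne
    have hxp : x ^ p = 1 := hexp x hx
    refine ⟨avg p x (e l), ?_, ?_, smul_avg_self hxp _⟩
    all_goals
      have havg : avg p x (e l) = e (∑ k : Fin p, α (z ^ (k : ℕ)) * (σ z ^ (k : ℕ)) l) := by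
        rw [map_sum, avg_apply, ← Fin.sum_univ_eq_sum_range (fun k => x ^ k • e l)]
        refine Finset.sum_congr rfl fun k _ => ?_
        rw [show x ^ (k : ℕ) = ((z ^ (k : ℕ) : R) : D) from (SubgroupClass.coe_pow z k).symm, hασ,
          show σ (z ^ (k : ℕ)) = σ z ^ (k : ℕ) from map_pow π z k]
      rw [havg]
    · exact (hmemX _).2 ⟨_, rfl⟩
    · intro h
      exact hl (he (h.trans (map_zero e).symm))

variable [Finite D] [FaithfulSMul D E]

/-- in an elementary abelian group every nonidentity element misses some subgroup of index at most `p`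
with a fixed vector that it moves -/
theorem exists_hyperplane [hp : Fact p.Prime] (hinv : ∀ a : E, p • a = 0 → a = 0) (B : Subgroup D)
    (hcomm : ∀ x ∈ B, ∀ y ∈ B, x * y = y * x) (hexp : ∀ x ∈ B, x ^ p = 1) {h : D} (hh : h ∈ B)
    (h1 : h ≠ 1) :
    ∃ H : Subgroup D, H ≤ B ∧ Nat.card B ≤ p * Nat.card H ∧
      ∃ a : E, (∀ x ∈ H, x • a = a) ∧ h • a ≠ a := by
  classical
  let 𝒮 : Set (Subgroup D) := {R | R ≤ B ∧ ∃ a : E, (∀ x ∈ R, x • a = a) ∧ h • a ≠ a}
  have hne : 𝒮.Nonempty := by
    obtain ⟨a, ha⟩ : ∃ a : E, h • a ≠ a := by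
      by_contra hc
      push Not at hc
      exact h1 (eq_of_smul_eq_smul fun a : E => by rw [hc a, one_smul])
    exact ⟨⊥, bot_le, a, fun x hx => by rw [Subgroup.mem_bot.1 hx, one_smul], ha⟩
  obtain ⟨R, hR, hmax⟩ := Set.Finite.exists_maximal (Set.toFinite 𝒮) hne
  obtain ⟨hRB, a, hfix, hmove⟩ := hR
  refine ⟨R, hRB, ?_, a, hfix, hmove⟩
  by_contra hlt
  push Not at hlt
  have step : ∀ y ∈ B, y ∉ R → h • avg p y a = avg p y a := by
    intro y hy hyR
    by_contra hm
    have hfix' : R ⊔ Subgroup.zpowers y ≤ MulAction.stabilizer D (avg p y a) := by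
      refine sup_le (fun x hx => ?_) (Subgroup.zpowers_le.2 (smul_avg_self (hexp y hy) a))
      rw [MulAction.mem_stabilizer_iff, smul_avg, hcomm x (hRB hx) y hy, mul_inv_cancel_right,
        hfix x hx]
    have hle : R ⊔ Subgroup.zpowers y ≤ B := sup_le hRB (Subgroup.zpowers_le.2 hy)
    have := hmax (⟨hle, _, fun x hx => hfix' hx, hm⟩ : R ⊔ Subgroup.zpowers y ∈ 𝒮) le_sup_left
    exact hyR (this (Subgroup.mem_sup_right (Subgroup.mem_zpowers y)))
  obtain ⟨z, hz, hzR⟩ : ∃ z ∈ B, z ∉ R := by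
    by_contra hc
    push Not at hc
    have := Subgroup.card_le_of_le (show B ≤ R from hc)
    have := hp.out.one_lt
    nlinarith [Nat.card_pos (α := R)]
  have hRn : Subgroup.zpowers z ≤ Subgroup.normalizer (R : Set D) := by
    refine Subgroup.zpowers_le.2 (Subgroup.mem_normalizer_iff.2 fun x => ⟨fun hx => ?_, fun hx => ?_⟩)
    · rwa [hcomm z hz x (hRB hx), mul_inv_cancel_right]
    · have h2 := hcomm z hz _ (hRB hx)
      have : z * x * z⁻¹ = x := by
        calc z * x * z⁻¹ = z⁻¹ * (z * (z * x * z⁻¹)) := by group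
          _ = z⁻¹ * ((z * x * z⁻¹) * z) := by rw [h2]
          _ = x := by group
      rwa [this] at hx
  obtain ⟨w, hw, hwR⟩ : ∃ w ∈ B, w ∉ R ⊔ Subgroup.zpowers z := by
    by_contra hc
    push Not at hc
    have h2 := Subgroup.card_le_of_le (show B ≤ R ⊔ Subgroup.zpowers z from hc)
    have h3 : Nat.card ↥(R ⊔ Subgroup.zpowers z) ≤ p * Nat.card R := by
      have h4 : ((R ⊔ Subgroup.zpowers z : Subgroup D) : Set D) = (R : Set D) * (Subgroup.zpowers z : Set D) :=
        Subgroup.coe_mul_of_right_le_normalizer_left _ _ hRn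
      calc Nat.card ↥(R ⊔ Subgroup.zpowers z) = Nat.card ((R : Set D) * (Subgroup.zpowers z : Set D) : Set D) := by
            rw [← h4]; rfl
        _ ≤ Nat.card (R : Set D) * Nat.card (Subgroup.zpowers z : Set D) := Set.natCard_mul_le
        _ ≤ p * Nat.card R := by
            rw [mul_comm]
            refine Nat.mul_le_mul ?_ le_rfl
            show Nat.card (Subgroup.zpowers z) ≤ p
            rw [Nat.card_zpowers]
            exact Nat.le_of_dvd hp.out.pos (orderOf_dvd_of_pow_eq_one (hexp z hz))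
    omega
  apply hmove
  apply eq_of_nsmul_eq hinv
  rw [← smul_comm]
  have hzp := hexp z hz
  have hsum : (∑ i ∈ Finset.range p, avg p (w * z ^ i) a) + avg p z a =
      p • a + (∑ k ∈ Finset.range p, (w ^ k) • avg p z a) := by
    -- both sides are the sum over the same group elements
    have hk : ∀ k : ℕ, ∀ i : ℕ, ((w * z ^ i) ^ k) • a = (w ^ k * (z ^ k) ^ i) • a := fun k i => by
      rw [(show Commute w (z ^ i) from (show Commute w z from hcomm w hw z hz).pow_right i).mul_pow,
        ← pow_mul, ← pow_mul, mul_comm i k]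
    have hkz : ∀ k ∈ Finset.range p, k ≠ 0 → avg p (z ^ k) a = avg p z a := by
      intro k hk hk0
      have hkp : Nat.Coprime k p := (hp.out.coprime_iff_not_dvd.2 fun hd =>
        absurd (Nat.le_of_dvd (Nat.pos_of_ne_zero hk0) hd) (not_le.2 (Finset.mem_range.1 hk))).symm
      rw [avg_apply, avg_apply]
      refine Finset.sum_bij (fun i _ => k * i % p) (fun i _ => Finset.mem_range.2 (Nat.mod_lt _ hp.out.pos)) ?_ ?_ ?_
      · intro i hi j hj hij
        have := Nat.ModEq.cancel_left_of_coprime (c := k) (by rwa [Nat.coprime_comm] at hkp) hij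
        rw [Nat.ModEq, Nat.mod_eq_of_lt (Finset.mem_range.1 hi), Nat.mod_eq_of_lt (Finset.mem_range.1 hj)] at this
        exact this
      · intro b hb
        obtain ⟨m, hm⟩ := Nat.exists_mul_mod_eq_one_of_coprime hkp hp.out.one_lt
        refine ⟨m * b % p, Finset.mem_range.2 (Nat.mod_lt _ hp.out.pos), ?_⟩
        rw [Nat.mul_mod_mod, ← mul_assoc, Nat.mul_mod, hm.2, one_mul, Nat.mod_mod,
          Nat.mod_eq_of_lt (Finset.mem_range.1 hb)]
      · intro i _
        congr 1
        rw [← pow_mul]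
        conv_lhs => rw [← Nat.mod_add_div (k * i) p, pow_add, pow_mul, hzp, one_pow, mul_one]
    rw [Finset.sum_congr rfl fun i _ => avg_apply p (w * z ^ i) a]
    simp only [hk]
    rw [Finset.sum_comm, ← Finset.sum_erase_add _ _ (Finset.mem_range.2 hp.out.pos),
      ← Finset.sum_erase_add (Finset.range p) (fun k => (w ^ k) • avg p z a) (Finset.mem_range.2 hp.out.pos)]
    simp only [pow_zero, one_mul, one_pow, one_smul, Finset.sum_const, Finset.card_range]
    have : ∀ k ∈ (Finset.range p).erase 0,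
        (∑ i ∈ Finset.range p, (w ^ k * (z ^ k) ^ i) • a) = (w ^ k) • avg p z a := by
      intro k hk
      obtain ⟨hk0, hk⟩ := Finset.mem_erase.1 hk
      rw [← hkz k hk hk0, avg_apply, Finset.smul_sum]
      simp only [mul_smul]
    rw [Finset.sum_congr rfl this]
    abel
  have hwi : ∀ i : ℕ, h • avg p (w * z ^ i) a = avg p (w * z ^ i) a := fun i =>
    step _ (mul_mem hw (pow_mem hz i)) fun hmem => hwR (by
      have := mul_mem (Subgroup.mem_sup_left hmem : w * z ^ i ∈ R ⊔ Subgroup.zpowers z)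
        (inv_mem (Subgroup.mem_sup_right (pow_mem (Subgroup.mem_zpowers z) i)))
      rwa [mul_inv_cancel_right] at this)
  have hz' := step z hz hzR
  have hR : h • ((∑ k ∈ Finset.range p, (w ^ k) • avg p z a)) = ∑ k ∈ Finset.range p, (w ^ k) • avg p z a := by
    rw [Finset.smul_sum]
    refine Finset.sum_congr rfl fun k _ => ?_
    rw [smul_smul, hcomm h hh _ (pow_mem hw k), mul_smul, hz']
  have hL : h • ((∑ i ∈ Finset.range p, avg p (w * z ^ i) a) + avg p z a) =
      (∑ i ∈ Finset.range p, avg p (w * z ^ i) a) + avg p z a := by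
    rw [smul_add, Finset.smul_sum, hz']
    simp only [hwi]
  rw [hsum, smul_add, hR, add_left_inj] at hL
  exact hL

end CfsgLib.TransOdd
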