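import Cfsg.Agent.Lib.TransOdd.Main

/-!
The structure theorem without faithfulness: pass to the image in the automorphism group.
-/

set_option autoImplicit false

namespace CfsgLib.TransOdd

open CfsgLib.RankOneInvol

universe u v

variable {D : Type u} [Group D] [Finite D] {E : Type v} [AddCommGroup E] [Finite E]
  [DistribMulAction D E] {τ : D ≃* D} {s0 : E}

/-- the inverted elements are the powers of one element, invariant under conjugation; the stabiliser
is cyclic modulo the kernel of the action -/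
theorem Twisted.structure_image (h : Twisted τ s0) :
    (∃ k0 : D, ∀ k, τ k = k⁻¹ ↔ k ∈ Subgroup.zpowers k0) ∧
    (∀ d k : D, τ k = k⁻¹ → τ (d * k * d⁻¹) = (d * k * d⁻¹)⁻¹) ∧
    (∃ v0 : D, v0 • s0 = s0 ∧ ∀ v : D, v • s0 = s0 → ∃ n : ℤ, ∀ e : E, (v * v0 ^ n) • e = e) ∧
    (∀ w k : D, (∀ e : E, w • e = e) → τ k = k⁻¹ → w * k = k * w) := by
  classical
  let f : D →* (AddMonoid.End E)ˣ := (DistribMulAction.toAddMonoidEnd D E).toHomUnits
  have hfa : ∀ (c : D) (x : E), f c • x = c • x := fun c x => rfl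
  have hker : ∀ c : D, f c = 1 → τ c = c := fun c hc => (h.fix _).2 (by
    rw [← hfa, hc, one_smul])
  have hsurj := f.rangeRestrict_surjective
  have hle : f.rangeRestrict.ker ≤ (f.rangeRestrict.comp τ.toMonoidHom).ker := by
    intro c hc
    rw [MonoidHom.ker_rangeRestrict] at hc
    rw [MonoidHom.mem_ker, MonoidHom.comp_apply, show τ.toMonoidHom c = c from hker c hc]
    exact Subtype.ext hc
  let t1 : f.range →* f.range := f.rangeRestrict.liftOfSurjective hsurj ⟨_, hle⟩
  have ht1 : ∀ c : D, t1 (f.rangeRestrict c) = f.rangeRestrict (τ c) := fun c =>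
    MonoidHom.liftOfRightInverse_comp_apply _ _ (Function.rightInverse_surjInv hsurj) ⟨_, hle⟩ c
  have ht11 : ∀ d, t1 (t1 d) = d := by
    intro d
    obtain ⟨c, rfl⟩ := hsurj d
    rw [ht1, ht1, h.invol]
  let τ' : f.range ≃* f.range :=
    { toFun := t1, invFun := t1, left_inv := ht11, right_inv := ht11, map_mul' := map_mul t1 }
  haveI : FaithfulSMul f.range E := ⟨fun {a b} hab => Subtype.ext (Units.ext (AddMonoidHom.ext hab))⟩
  haveI : Finite (AddMonoid.End E) :=
    Finite.of_injective (fun φ : AddMonoid.End E => (φ : E → E)) DFunLike.coe_injective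
  have htw : Twisted τ' s0 := by
    refine ⟨h.odd.of_dvd_nat (Subgroup.card_range_dvd f), h.two, h.ne_zero, ht11, ?_, ?_⟩
    · intro e he
      obtain ⟨g, hg⟩ := h.trans e he
      exact ⟨f.rangeRestrict g, (hfa g s0).trans hg⟩
    · intro d
      obtain ⟨c, rfl⟩ := hsurj d
      constructor
      · intro hd
        have hd' : f (τ c) = f c := congrArg Subtype.val ((ht1 c).symm.trans hd)
        have h3 : τ (τ c * c⁻¹) = τ c * c⁻¹ :=
          hker _ (by rw [map_mul, map_inv, hd', mul_inv_cancel])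
        rw [map_mul, map_inv, h.invol] at h3
        have h5 : τ c * c⁻¹ = 1 := eq_one_of_sq_of_odd (h.odd_orderOf _) (by
          nth_rw 1 [← h3]
          group)
        exact (hfa c s0).trans ((h.fix c).1 (mul_inv_eq_one.1 h5))
      · intro hd
        exact (ht1 c).trans (congrArg _ ((h.fix c).2 ((hfa c s0).symm.trans hd)))
  obtain ⟨-, kb, -, hkb⟩ := htw.semilinear
  have hinvim : ∀ k : D, τ k = k⁻¹ → f.rangeRestrict k ∈ Subgroup.zpowers kb := by
    intro k hk
    refine (hkb _).1 ?_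
    show t1 (f.rangeRestrict k) = _
    rw [ht1, hk, map_inv]
  have hne : (kb : f.range) • s0 ≠ 0 := (smul_ne_zero_iff_ne kb).2 h.ne_zero
  obtain ⟨k0, hk0, hk0e⟩ := h.exists_inverted hne
  have hk0b : f.rangeRestrict k0 = kb := htw.eq_of_smul_eq ((hkb _).2 (hinvim k0 hk0))
    ((hkb kb).2 (Subgroup.mem_zpowers kb)) ((hfa k0 s0).trans hk0e)
  have hpow : ∀ n : ℤ, τ (k0 ^ n) = (k0 ^ n)⁻¹ := fun n => by
    rw [map_zpow, hk0, inv_zpow]
  have hK : ∀ k, τ k = k⁻¹ ↔ k ∈ Subgroup.zpowers k0 := by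
    intro k
    constructor
    · intro hk
      obtain ⟨n, hn⟩ := Subgroup.mem_zpowers_iff.1 (hinvim k hk)
      refine Subgroup.mem_zpowers_iff.2 ⟨n, h.eq_of_smul_eq (hpow n) hk ?_⟩
      rw [← hfa, ← hfa k]
      have : f.rangeRestrict (k0 ^ n) = f.rangeRestrict k := by rw [map_zpow, hk0b, hn]
      exact congrArg (fun z : f.range => z • s0) this
    · intro hk
      obtain ⟨n, rfl⟩ := Subgroup.mem_zpowers_iff.1 hk
      exact hpow n
  have hconjV : ∀ v k : D, v • s0 = s0 → τ k = k⁻¹ → τ (v * k * v⁻¹) = (v * k * v⁻¹)⁻¹ := by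
    intro v k hv hk
    rw [map_mul, map_mul, map_inv, (h.fix v).2 hv, hk]
    group
  refine ⟨⟨k0, hK⟩, ?_, ?_, ?_⟩
  · intro d k hk
    obtain ⟨k1, v, hk1, hv, rfl⟩ := h.exists_decomp d
    have hx := hconjV v k ((h.fix v).1 hv) hk
    have hcomm : k1 * (v * k * v⁻¹) = v * k * v⁻¹ * k1 := by
      obtain ⟨i, hi⟩ := Subgroup.mem_zpowers_iff.1 ((hK k1).1 hk1)
      obtain ⟨j, hj⟩ := Subgroup.mem_zpowers_iff.1 ((hK _).1 hx)
      rw [← hi, ← hj]
      exact ((Commute.refl k0).zpow_zpow i j).eq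
    have e : k1 * v * k * (k1 * v)⁻¹ = v * k * v⁻¹ := by
      calc k1 * v * k * (k1 * v)⁻¹ = k1 * (v * k * v⁻¹) * k1⁻¹ := by group
        _ = _ := by rw [hcomm]; group
    rw [e]
    exact hx
  · haveI := htw.isCyclic_stabilizer
    obtain ⟨vb, hvb⟩ := IsCyclic.exists_generator (α := MulAction.stabilizer f.range s0)
    obtain ⟨v0, hv0⟩ := hsurj (vb : f.range)
    refine ⟨v0, (hfa v0 s0).symm.trans ?_, fun v hv => ?_⟩
    · have := vb.2
      rw [← hv0] at this
      exact this
    · obtain ⟨n, hn⟩ := Subgroup.mem_zpowers_iff.1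
        (hvb ⟨f.rangeRestrict v, (hfa v s0).trans hv⟩)
      refine ⟨-n, fun e => ?_⟩
      have h1 : f.rangeRestrict (v * v0 ^ (-n)) = 1 := by
        rw [map_mul, map_zpow, hv0, ← show (vb : f.range) ^ n = f.rangeRestrict v from
          congrArg Subtype.val hn, zpow_neg, mul_inv_cancel]
      rw [← hfa]
      exact (congrArg (fun z : f.range => z • e) h1).trans (one_smul _ e)
  · intro w k hw hk
    have hx := hconjV w k (hw s0) hk
    exact mul_inv_eq_iff_eq_mul.1 (h.eq_of_smul_eq hx hk (by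
      rw [mul_smul, mul_smul, inv_smul_eq_iff.2 (hw s0).symm, hw]))

end CfsgLib.TransOdd
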