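import Cfsg.Agent.Lib.TransOdd.Semilinear

/-!
Elementary abelian subgroups: the bound for subgroups fixing a vector, and the impossibility of an
automorphism of larger prime-power order acting without fixed points.
-/

set_option autoImplicit false

namespace CfsgLib.TransOdd

universe u v

variable {D : Type u} [Group D] {E : Type v} [AddCommGroup E] [DistribMulAction D E] {p : ℕ}

theorem mul_card_le_of_ne [Finite D] [hp : Fact p.Prime] {R B : Subgroup D} (hexp : ∀ x ∈ B, x ^ p = 1)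
    (hle : R ≤ B) (hne : R ≠ B) : p * Nat.card R ≤ Nat.card B := by
  have hB : IsPGroup p B := fun x => ⟨1, Subtype.ext (by simpa using hexp x x.2)⟩
  obtain ⟨n, hn⟩ := hB.exists_card_eq
  obtain ⟨m, -, hm⟩ := (Nat.dvd_prime_pow hp.out).1 (hn ▸ Subgroup.card_dvd_of_le hle)
  have hlt : m < n := by
    by_contra h
    exact hne (Subgroup.eq_of_le_of_card_ge hle (by
      rw [hn, hm]; exact Nat.pow_le_pow_right hp.out.pos (by omega)))
  rw [hn, hm, ← pow_succ']
  exact Nat.pow_le_pow_right hp.out.pos hlt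

theorem card_le_mul_inf [Finite D] {H H' B : Subgroup D} (hH : H ≤ B) (hH' : H' ≤ B) {i i' : ℕ}
    (h : Nat.card B ≤ i * Nat.card H) (h' : Nat.card B ≤ i' * Nat.card H') :
    Nat.card B ≤ i * i' * Nat.card ↥(H ⊓ H') := by
  have e : ∀ {K : Subgroup D}, K ≤ B → Nat.card B = Nat.card K * (K.subgroupOf B).index := fun {K} hK => by
    rw [← Subgroup.card_mul_index (K.subgroupOf B), Nat.card_congr (Subgroup.subgroupOfEquivOfLe hK).toEquiv]
  have e' : ∀ {K : Subgroup D} {j : ℕ}, K ≤ B → Nat.card B ≤ j * Nat.card K → (K.subgroupOf B).index ≤ j :=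
    fun {K j} hK hj => by
      rw [e hK, mul_comm j] at hj
      exact Nat.le_of_mul_le_mul_left hj Nat.card_pos
  have h1 : ((H ⊓ H').subgroupOf B).index ≤ i * i' := by
    rw [show (H ⊓ H').subgroupOf B = H.subgroupOf B ⊓ H'.subgroupOf B from Subgroup.comap_inf _ _ _]
    exact Subgroup.index_inf_le.trans (Nat.mul_le_mul (e' hH h) (e' hH' h'))
  rw [e (inf_le_left.trans hH), mul_comm (i * i')]
  exact Nat.mul_le_mul_left _ h1

/-- an automorphism of `q`-power order of a group of order `1`, `p` or `p ^ 2` is trivial, `2 < p < q` -/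
theorem mulAut_eq_one_of_small {A : Type*} [Group A] [Finite A] [hp : Fact p.Prime] {q : ℕ}
    [hq : Fact q.Prime] (hp2 : p ≠ 2) (hpq : p < q) {k : ℕ} (hk : k ≤ 2) (hA : Nat.card A = p ^ k)
    (φ : MulAut A) {n : ℕ} (hφ : φ ^ q ^ n = 1) : φ = 1 := by
  let F : Subgroup A :=
    { carrier := {x | φ x = x}
      mul_mem' := fun {x y} hx hy => by
        show φ (x * y) = x * y
        rw [map_mul, show φ x = x from hx, show φ y = y from hy]
      one_mem' := map_one φ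
      inv_mem' := fun {x} hx => by show φ x⁻¹ = x⁻¹; rw [map_inv, show φ x = x from hx] }
  have hP : IsPGroup q (Subgroup.zpowers φ) := fun ⟨x, hx⟩ => by
    obtain ⟨i, rfl⟩ := hx
    exact ⟨n, Subtype.ext (by
      show (φ ^ i) ^ q ^ n = 1
      rw [← zpow_natCast, ← zpow_mul, mul_comm, zpow_mul, zpow_natCast, hφ, one_zpow])⟩
  have hfix : MulAction.fixedPoints (Subgroup.zpowers φ) A = (F : Set A) := by
    ext x
    constructor
    · intro h
      exact h ⟨φ, Subgroup.mem_zpowers φ⟩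
    · rintro h ⟨ψ, hψ⟩
      have : Subgroup.zpowers φ ≤ MulAction.stabilizer (MulAut A) x := Subgroup.zpowers_le.2 h
      exact this hψ
  have hmod := hP.card_modEq_card_fixedPoints A
  rw [hfix] at hmod
  obtain ⟨j, hjk, hj⟩ := (Nat.dvd_prime_pow hp.out).1 (hA ▸ F.card_subgroup_dvd_card)
  have hj' : Nat.card (F : Set A) = p ^ j := hj
  rw [hA, hj'] at hmod
  have hqp : ¬ q ∣ p := fun h => by
    have := (Nat.prime_dvd_prime_iff_eq hq.out hp.out).1 h; omega
  have hjk' : j = k := by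
    by_contra hne
    have hd : q ∣ p ^ (k - j) - 1 := by
      have h1 := (Nat.modEq_iff_dvd' (Nat.pow_le_pow_right hp.out.pos hjk)).1 hmod.symm
      rw [show p ^ k - p ^ j = p ^ j * (p ^ (k - j) - 1) by
        rw [Nat.mul_sub, mul_one, ← pow_add, Nat.add_sub_cancel' hjk]] at h1
      exact (hq.out.dvd_mul.1 h1).resolve_left fun h => hqp (hq.out.dvd_of_dvd_pow h)
    have hp1 : 3 ≤ p := by
      have := hp.out.two_le
      omega
    have hcase : k - j = 1 ∨ k - j = 2 := by omega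
    have hq1 : ¬ q ∣ p - 1 := fun h => by
      have := Nat.le_of_dvd (by omega) h; omega
    rcases hcase with h | h <;> rw [h] at hd
    · exact hq1 (by simpa using hd)
    · rw [show p ^ 2 - 1 = (p - 1) * (p + 1) by rw [Nat.mul_comm, ← Nat.sq_sub_sq, one_pow]] at hd
      have h2 := (hq.out.dvd_mul.1 hd).resolve_left hq1
      have hle := Nat.le_of_dvd (by omega) h2
      have heq : q = p + 1 := by omega
      obtain ⟨a, ha⟩ := hp.out.odd_of_ne_two hp2
      obtain ⟨b, hb⟩ := hq.out.odd_of_ne_two (by omega)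
      omega
  have htop : F = ⊤ := Subgroup.eq_top_of_card_eq F (by rw [hj, hjk', hA])
  exact MulEquiv.ext fun x => (htop ▸ Subgroup.mem_top x : x ∈ F)

variable [Finite D]

/-- conjugation by `g` induced on a small quotient `Q / N` is trivial -/
theorem absorb [hp : Fact p.Prime] {q : ℕ} [hq : Fact q.Prime] (hp2 : p ≠ 2) (hpq : p < q)
    {Q N : Subgroup D} (hQ : IsPGroup p Q) (hNQ : N ≤ Q) (hn : ∀ x ∈ Q, ∀ y ∈ N, x * y * x⁻¹ ∈ N)
    {g : D} {n : ℕ} (hg : g ^ q ^ n = 1) (hgQ : ∀ x ∈ Q, g * x * g⁻¹ ∈ Q)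
    (hgN : ∀ x ∈ N, g * x * g⁻¹ ∈ N) (hcard : Nat.card Q ≤ p ^ 2 * Nat.card N) :
    ∀ x ∈ Q, x⁻¹ * (g * x * g⁻¹) ∈ N := by
  haveI : (N.subgroupOf Q).Normal := ⟨fun y hy x => hn x x.2 y hy⟩
  let φ : MulAut Q := MulEquiv.ofBijective
    ({ toFun := fun x => ⟨g * x * g⁻¹, hgQ x x.2⟩
       map_one' := Subtype.ext (by simp)
       map_mul' := fun x y => Subtype.ext (by show g * (x * y : D) * g⁻¹ = _; simp [mul_assoc]) } : Q →* Q)
    (Finite.injective_iff_bijective.1 fun x y h => Subtype.ext (by simpa using Subtype.ext_iff.1 h))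
  have hφN : (N.subgroupOf Q).map φ.toMonoidHom = N.subgroupOf Q := by
    refine Subgroup.eq_of_le_of_card_ge ?_ (le_of_eq
      (Subgroup.card_map_of_injective (f := φ.toMonoidHom) φ.injective).symm)
    rintro _ ⟨x, hx, rfl⟩
    exact hgN x hx
  let ψ : MulAut (Q ⧸ N.subgroupOf Q) := QuotientGroup.congr _ _ φ hφN
  obtain ⟨k, hk⟩ := (hQ.to_quotient (N.subgroupOf Q)).exists_card_eq
  have hk2 : k ≤ 2 := by
    have h1 := Subgroup.card_mul_index (N.subgroupOf Q)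
    rw [Subgroup.index, hk, Nat.card_congr (Subgroup.subgroupOfEquivOfLe hNQ).toEquiv] at h1
    rw [← h1, mul_comm (p ^ 2)] at hcard
    exact (Nat.pow_le_pow_iff_right hp.out.one_lt).1 (Nat.le_of_mul_le_mul_left hcard Nat.card_pos)
  have hψ : ∀ (m : ℕ) (x : Q), (ψ ^ m) (QuotientGroup.mk x) = QuotientGroup.mk ((φ ^ m) x) := by
    intro m
    induction m with
    | zero => intro x; rfl
    | succ m ih => intro x; rw [pow_succ', MulAut.mul_apply, ih x, pow_succ' φ, MulAut.mul_apply]; rfl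
  have hφpow : ∀ (m : ℕ) (x : Q), (((φ ^ m) x : Q) : D) = g ^ m * x * (g ^ m)⁻¹ := by
    intro m
    induction m with
    | zero => intro x; simp
    | succ m ih =>
      intro x
      rw [pow_succ' φ, MulAut.mul_apply]
      show g * ((φ ^ m) x : Q) * g⁻¹ = _
      rw [ih x, pow_succ' g]
      group
  have hψ1 : ψ ^ q ^ n = 1 := by
    apply MulEquiv.ext
    intro z
    refine QuotientGroup.induction_on z fun x => ?_
    rw [hψ, MulAut.one_apply]
    congr 1
    exact Subtype.ext (by rw [hφpow, hg]; simp)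
  have h1 := mulAut_eq_one_of_small hp2 hpq hk2 hk ψ hψ1
  intro x hx
  have h2 := hψ 1 ⟨x, hx⟩
  rw [pow_one, h1, MulAut.one_apply, QuotientGroup.eq] at h2
  simpa [Subgroup.mem_subgroupOf, φ] using h2

variable [FaithfulSMul D E]

/-- the local hypothesis -/
def LocallySemilinear (D : Type u) [Group D] (E : Type v) [AddCommGroup E] [DistribMulAction D E] : Prop :=
  ∀ (b : D) (a : E), b ≠ 1 → a ≠ 0 → b • a = a →
    IsSemilinearOn (fixedAdd (E := E) b) (Subgroup.centralizer ({b} : Set D) : Set D)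

theorem subset_centralizer_of_comm {B : Subgroup D} (hcomm : ∀ x ∈ B, ∀ y ∈ B, x * y = y * x) {b : D}
    (hb : b ∈ B) : (B : Set D) ⊆ (Subgroup.centralizer ({b} : Set D) : Set D) :=
  fun x hx => Subgroup.mem_centralizer_singleton_iff.2 (hcomm x hx b hb)

theorem card_le_sq_of_fixed [hp : Fact p.Prime] (hinv : ∀ a : E, p • a = 0 → a = 0)
    (hloc : LocallySemilinear D E) (B : Subgroup D) (hcomm : ∀ x ∈ B, ∀ y ∈ B, x * y = y * x)
    (hexp : ∀ x ∈ B, x ^ p = 1) {s : E} (hs : s ≠ 0) (hfix : ∀ x ∈ B, x • s = s) :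
    Nat.card B ≤ p ^ 2 := by
  classical
  by_contra hgt
  push Not at hgt
  have hp1 := hp.out.one_lt
  obtain ⟨h, hh, h1⟩ : ∃ h ∈ B, h ≠ 1 := by
    by_contra hc
    push Not at hc
    have : B = ⊥ := (Subgroup.eq_bot_iff_forall B).2 hc
    rw [this, Subgroup.card_bot] at hgt
    nlinarith
  obtain ⟨H1, hH1, hc1, a1, hf1, hm1⟩ := exists_hyperplane hinv B hcomm hexp hh h1
  obtain ⟨h', hh', h'1⟩ : ∃ h' ∈ H1, h' ≠ 1 := by
    by_contra hc
    push Not at hc
    have : H1 = ⊥ := (Subgroup.eq_bot_iff_forall H1).2 hc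
    rw [this, Subgroup.card_bot, mul_one] at hc1
    nlinarith
  obtain ⟨H2, hH2, hc2, a2, hf2, hm2⟩ := exists_hyperplane hinv B hcomm hexp (hH1 hh') h'1
  have hcard := card_le_mul_inf hH1 hH2 hc1 hc2
  obtain ⟨b, hb, hb1⟩ : ∃ b ∈ H1 ⊓ H2, b ≠ 1 := by
    by_contra hc
    push Not at hc
    have : H1 ⊓ H2 = ⊥ := (Subgroup.eq_bot_iff_forall _).2 hc
    rw [this, Subgroup.card_bot, mul_one, ← pow_two] at hcard
    omega
  have hbB : b ∈ B := hH1 hb.1
  obtain ⟨Rn, Rk, -, hRnB, hRk, hcR, -, -, hfree, -⟩ := semilinear_exponent_p _ (hloc b s hb1 hs (hfix b hbB))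
    hinv B (subset_centralizer_of_comm hcomm hbB) hexp
  have hle : Rn ≤ Rk := fun x hx => by
    by_contra hxk
    exact hs (hfree x hx hxk s (hfix b hbB) (hfix x (hRnB hx)))
  have hB : Nat.card B ≤ p * Nat.card Rk :=
    hcR.trans (Nat.mul_le_mul_left p (Subgroup.card_le_of_le hle))
  have key : ∀ (H : Subgroup D) (a : E) (h : D), H ≤ B → Nat.card B ≤ p * Nat.card H →
      (∀ x ∈ H, x • a = a) → h ∈ B → h • a ≠ a → b • a = a → Rk = H := by
    intro H a h hH hc hf hhB hm hba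
    set S := B ⊓ MulAction.stabilizer D a
    have hne : S ≠ B := fun e => hm (show h ∈ MulAction.stabilizer D a from (e.ge hhB).2)
    have hHS : H ≤ S := le_inf hH fun x hx => hf x hx
    have hkS : Rk ≤ S := fun x hx => ⟨((hRk x).1 hx).1, ((hRk x).1 hx).2 a hba⟩
    have h3 := mul_card_le_of_ne hexp inf_le_left hne
    have eH : H = S := Subgroup.eq_of_le_of_card_ge hHS (Nat.le_of_mul_le_mul_left (h3.trans hc) hp.out.pos)
    have ek : Rk = S := Subgroup.eq_of_le_of_card_ge hkS (Nat.le_of_mul_le_mul_left (h3.trans hB) hp.out.pos)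
    rw [ek, eH]
  have e1 := key H1 a1 h hH1 hc1 hf1 hh hm1 (hf1 b hb.1)
  have e2 := key H2 a2 h' hH2 hc2 hf2 (hH1 hh') hm2 (hf2 b hb.2)
  exact hm2 (hf2 h' (e2 ▸ e1.symm ▸ hh'))

/-- members of a pencil: subgroups of order `p ^ 2` of an elementary abelian group of order `p ^ 3`
containing a given subgroup of order `p` -/
theorem pencil_card [hp : Fact p.Prime] {B : Subgroup D} (hcomm : ∀ x ∈ B, ∀ y ∈ B, x * y = y * x)
    (hexp : ∀ x ∈ B, x ^ p = 1) (hB : Nat.card B = p ^ 3) {ℓ : Subgroup D} (hℓ : ℓ ≤ B)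
    (hℓc : Nat.card ℓ = p) :
    Nat.card {H : Subgroup D // H ≤ B ∧ Nat.card H = p ^ 2 ∧ ℓ ≤ H} = p + 1 := by
  classical
  haveI : Fintype D := Fintype.ofFinite D
  let P := {H : Subgroup D // H ≤ B ∧ Nat.card H = p ^ 2 ∧ ℓ ≤ H}
  let T := {x : D // x ∈ B ∧ x ∉ ℓ}
  have hgen : ∀ x : T, ℓ ⊔ Subgroup.zpowers (x : D) ≤ B ∧
      Nat.card ↥(ℓ ⊔ Subgroup.zpowers (x : D)) = p ^ 2 := by
    intro x
    have hle : ℓ ⊔ Subgroup.zpowers (x : D) ≤ B := sup_le hℓ (Subgroup.zpowers_le.2 x.2.1)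
    refine ⟨hle, le_antisymm ?_ ?_⟩
    · have hn : Subgroup.zpowers (x : D) ≤ Subgroup.normalizer (ℓ : Set D) :=
        Subgroup.le_normalizer_iff.2 fun z hz y hy => by
          rwa [hcomm z (Subgroup.zpowers_le.2 x.2.1 hz) y (hℓ hy), mul_inv_cancel_right]
      have h4 := Subgroup.coe_mul_of_right_le_normalizer_left ℓ _ hn
      calc Nat.card ↥(ℓ ⊔ Subgroup.zpowers (x : D))
          = Nat.card ↥((ℓ ⊔ Subgroup.zpowers (x : D) : Subgroup D) : Set D) := rfl
        _ ≤ Nat.card (ℓ : Set D) * Nat.card (Subgroup.zpowers (x : D) : Set D) := by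
            rw [h4]; exact Set.natCard_mul_le
        _ ≤ p ^ 2 := by
            show Nat.card ℓ * Nat.card (Subgroup.zpowers (x : D)) ≤ _
            rw [hℓc, Nat.card_zpowers, pow_two]
            exact Nat.mul_le_mul_left _ (Nat.le_of_dvd hp.out.pos
              (orderOf_dvd_of_pow_eq_one (hexp x x.2.1)))
    · have := mul_card_le_of_ne (fun y hy => hexp y (hle hy)) le_sup_left
        (fun e => x.2.2 (e.ge (Subgroup.mem_sup_right (Subgroup.mem_zpowers _))))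
      rwa [hℓc, ← pow_two] at this
  have huniq : ∀ (H : P) (x : T), (x : D) ∈ H.1 → H.1 = ℓ ⊔ Subgroup.zpowers (x : D) := fun H x hx =>
    (Subgroup.eq_of_le_of_card_ge (sup_le H.2.2.2 (Subgroup.zpowers_le.2 hx))
      (by rw [(hgen x).2, H.2.2.1])).symm
  let e : T ≃ (Σ H : P, {x : D // x ∈ H.1 ∧ x ∉ ℓ}) :=
    { toFun := fun x => ⟨⟨ℓ ⊔ Subgroup.zpowers (x : D), (hgen x).1, (hgen x).2, le_sup_left⟩,
        x, Subgroup.mem_sup_right (Subgroup.mem_zpowers _), x.2.2⟩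
      invFun := fun z => ⟨z.2, z.1.2.1 z.2.2.1, z.2.2.2⟩
      left_inv := fun x => rfl
      right_inv := by
        rintro ⟨H, x, hxH, hxℓ⟩
        refine Sigma.subtype_ext (Subtype.ext ?_) rfl
        exact (huniq H ⟨x, H.2.1 hxH, hxℓ⟩ hxH).symm }
  have hdiff : ∀ (H : Subgroup D), ℓ ≤ H →
      Nat.card {x : D // x ∈ H ∧ x ∉ ℓ} = Nat.card H - Nat.card ℓ := by
    intro H hH
    have h1 := Set.ncard_sdiff (show (ℓ : Set D) ⊆ H from hH)
    rw [← Nat.card_coe_set_eq, ← Nat.card_coe_set_eq, ← Nat.card_coe_set_eq] at h1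
    exact h1
  have hcardT : Nat.card T = p ^ 3 - p := by rw [hdiff B hℓ, hB, hℓc]
  have hsum := Nat.card_congr e
  rw [hcardT, Nat.card_sigma] at hsum
  rw [Finset.sum_congr rfl (fun H _ => by rw [hdiff H.1 H.2.2.2, H.2.2.1, hℓc] :
      ∀ H ∈ (Finset.univ : Finset P), Nat.card {x : D // x ∈ H.1 ∧ x ∉ ℓ} = p ^ 2 - p),
    Finset.sum_const, Finset.card_univ, smul_eq_mul, ← Nat.card_eq_fintype_card] at hsum
  have hp2 := hp.out.two_le
  have e1 : p ^ 3 - p = (p + 1) * (p ^ 2 - p) := by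
    rw [Nat.mul_sub, show p ^ 3 = p ^ 2 * p by ring]
    apply Nat.sub_eq_of_eq_add
    have : (p + 1) * p ≤ (p + 1) * p ^ 2 := Nat.mul_le_mul_left _ (by nlinarith)
    zify [this]
    ring
  rw [e1] at hsum
  exact (Nat.eq_of_mul_eq_mul_right (by
    have : p < p ^ 2 := by nlinarith
    omega) hsum).symm

theorem not_exists_free_automorphism [hp : Fact p.Prime] {q : ℕ} [hq : Fact q.Prime] (hp2 : p ≠ 2)
    (hpq : p < q) (hinv : ∀ a : E, p • a = 0 → a = 0) (hloc : LocallySemilinear D E) (B : Subgroup D)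
    (hB1 : B ≠ ⊥) (hcomm : ∀ x ∈ B, ∀ y ∈ B, x * y = y * x) (hexp : ∀ x ∈ B, x ^ p = 1)
    (hfix0 : ∀ a : E, (∀ x ∈ B, x • a = a) → a = 0) {g : D} {n : ℕ} (hg : g ^ q ^ n = 1)
    (hgB : ∀ x ∈ B, g * x * g⁻¹ ∈ B) (hfree : ∀ x ∈ B, g * x * g⁻¹ = x → x = 1) : False := by
  classical
  have hp1 := hp.out.one_lt
  have hp3 : 3 ≤ p := by have := hp.out.two_le; omega
  have hBp : IsPGroup p B := fun x => ⟨1, Subtype.ext (by simpa using hexp x x.2)⟩
  obtain ⟨m, hm⟩ := hBp.exists_card_eq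
  -- δ is surjective
  have hδinj : Function.Injective
      (fun x : B => (⟨(x : D)⁻¹ * (g * x * g⁻¹), mul_mem (inv_mem x.2) (hgB x x.2)⟩ : B)) := by
    intro x y h
    have h' : (x : D)⁻¹ * (g * x * g⁻¹) = (y : D)⁻¹ * (g * y * g⁻¹) := Subtype.ext_iff.1 h
    have h2 : g * ((y : D) * (x : D)⁻¹) * g⁻¹ = (y : D) * (x : D)⁻¹ := by
      calc g * ((y : D) * (x : D)⁻¹) * g⁻¹ = (g * y * g⁻¹) * (g * x * g⁻¹)⁻¹ := by group
        _ = ((y : D) * ((y : D)⁻¹ * (g * y * g⁻¹))) * ((x : D) * ((x : D)⁻¹ * (g * x * g⁻¹)))⁻¹ := by group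
        _ = ((y : D) * ((y : D)⁻¹ * (g * y * g⁻¹))) * ((y : D)⁻¹ * (g * y * g⁻¹))⁻¹ * (x : D)⁻¹ := by
          rw [h']; group
        _ = _ := by group
    exact (Subtype.ext (mul_inv_eq_one.1 (hfree _ (mul_mem y.2 (inv_mem x.2)) h2))).symm
  have hnoinv : ∀ H : Subgroup D, H ≤ B → Nat.card B ≤ p ^ 2 * Nat.card H →
      (∀ x ∈ H, g * x * g⁻¹ ∈ H) → H = B := by
    intro H hH hc hgH
    refine le_antisymm hH fun y hy => ?_
    obtain ⟨x, hx⟩ := Finite.surjective_of_injective hδinj ⟨y, hy⟩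
    have := absorb hp2 hpq hBp hH (fun z hz w hw => by
      rwa [hcomm z hz w (hH hw), mul_inv_cancel_right]) hg hgB hgH hc x x.2
    rwa [show (x : D)⁻¹ * (g * x * g⁻¹) = y from Subtype.ext_iff.1 hx] at this
  have hm3 : 3 ≤ m := by
    by_contra hlt
    exact hB1 (hnoinv ⊥ bot_le (by
      rw [hm, Subgroup.card_bot, mul_one]; exact Nat.pow_le_pow_right hp.out.pos (by omega))
      (fun x hx => by rw [Subgroup.mem_bot.1 hx]; simp)).symm
  -- the subgroups of index p with a fixed vector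
  have hyp : ∀ h ∈ B, h ≠ 1 → ∃ H, H ≤ B ∧ p * Nat.card H = Nat.card B ∧ h ∉ H ∧
      ∃ a : E, a ≠ 0 ∧ ∀ x, x ∈ H ↔ x ∈ B ∧ x • a = a := by
    intro h hh h1
    obtain ⟨H, hH, hc, a, hf, hm'⟩ := exists_hyperplane hinv B hcomm hexp hh h1
    have ha : a ≠ 0 := fun e => hm' (by rw [e, smul_zero])
    have hne : B ⊓ MulAction.stabilizer D a ≠ B := fun e => hm' (e.ge hh).2
    have hS : H = B ⊓ MulAction.stabilizer D a := Subgroup.eq_of_le_of_card_ge
      (le_inf hH fun x hx => hf x hx)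
      (Nat.le_of_mul_le_mul_left ((mul_card_le_of_ne hexp inf_le_left hne).trans hc) hp.out.pos)
    refine ⟨H, hH, le_antisymm (hS ▸ mul_card_le_of_ne hexp inf_le_left hne) hc, fun e => hm' (hf h e),
      a, ha, fun x => by rw [hS]; exact Iff.rfl⟩
  have hnb : ∀ H : Subgroup D, H ≤ B → 1 < Nat.card H → ∃ x ∈ H, x ≠ 1 := fun H _ hc => by
    by_contra hh
    push Not at hh
    rw [(Subgroup.eq_bot_iff_forall H).2 hh, Subgroup.card_bot] at hc
    omega
  obtain ⟨h, hh, h1⟩ := hnb B le_rfl (by rw [hm]; exact Nat.one_lt_pow (by omega) hp1)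
  obtain ⟨A1, hA1, hc1, -, a1, ha1, hs1⟩ := hyp h hh h1
  have hmp : p * p * p ≤ Nat.card B := by
    rw [hm]
    calc p * p * p = p ^ 3 := by ring
      _ ≤ p ^ m := Nat.pow_le_pow_right hp.out.pos hm3
  obtain ⟨h', hh', h'1⟩ := hnb A1 hA1 (by nlinarith)
  obtain ⟨A2, hA2, hc2, hh'2, a2, ha2, hs2⟩ := hyp h' (hA1 hh') h'1
  have hc12 := card_le_mul_inf hA1 hA2 hc1.ge hc2.ge
  obtain ⟨h'', hh'', h''1⟩ := hnb (A1 ⊓ A2) (inf_le_left.trans hA1) (by nlinarith)
  obtain ⟨A3, hA3, hc3, hh''3, a3, ha3, hs3⟩ := hyp h'' (hA1 hh''.1) h''1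
  have hA12 : p * Nat.card ↥(A1 ⊓ A2) ≤ Nat.card A1 :=
    mul_card_le_of_ne (fun x hx => hexp x (hA1 hx)) inf_le_left (fun e => hh'2 (e.ge hh').2)
  have hA123 : p * Nat.card ↥(A1 ⊓ A2 ⊓ A3) ≤ Nat.card ↥(A1 ⊓ A2) :=
    mul_card_le_of_ne (fun x hx => hexp x (hA1 hx.1)) inf_le_left (fun e => hh''3 (e.ge hh'').2)
  have hmeq : m = 3 := by
    by_contra hne
    have hm4 : p * p * p * p ≤ Nat.card B := by
      rw [hm]
      calc p * p * p * p = p ^ 4 := by ring
        _ ≤ p ^ m := Nat.pow_le_pow_right hp.out.pos (by omega)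
    have hc123 := card_le_mul_inf (inf_le_left.trans hA1) hA3 hc12 hc3.ge
    obtain ⟨b, hb, hb1⟩ := hnb (A1 ⊓ A2 ⊓ A3) (inf_le_left.trans (inf_le_left.trans hA1)) (by
      by_contra hle
      have := Nat.mul_le_mul_left (p * p * p) (not_lt.1 hle)
      have h2 := Nat.mul_le_mul_left (p * p * p) hp1
      nlinarith)
    have hbB := hA1 hb.1.1
    obtain ⟨Rn, Rk, -, -, hRk, hcR, hcRn, -, -, -⟩ := semilinear_exponent_p _
      (hloc b a1 hb1 ha1 ((hs1 b).1 hb.1.1).2) hinv B (subset_centralizer_of_comm hcomm hbB) hexp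
    have hk : Rk ≤ A1 ⊓ A2 ⊓ A3 := fun x hx => by
      obtain ⟨hxB, hxf⟩ := (hRk x).1 hx
      exact ⟨⟨(hs1 x).2 ⟨hxB, hxf a1 ((hs1 b).1 hb.1.1).2⟩, (hs2 x).2 ⟨hxB, hxf a2 ((hs2 b).1 hb.1.2).2⟩⟩,
        (hs3 x).2 ⟨hxB, hxf a3 ((hs3 b).1 hb.2).2⟩⟩
    have h5 := Subgroup.card_le_of_le hk
    have h6 : 0 < Nat.card Rk := Nat.card_pos
    have h7 : Nat.card B ≤ p * p * Nat.card Rk := by
      calc Nat.card B ≤ p * Nat.card Rn := hcR
        _ ≤ p * (p * Nat.card Rk) := Nat.mul_le_mul_left p hcRn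
        _ = _ := by ring
    nlinarith
  subst hmeq
  let 𝓗 := {H : Subgroup D // H ≤ B ∧ Nat.card H = p ^ 2 ∧ ∃ a : E, a ≠ 0 ∧ ∀ x ∈ H, x • a = a}
  have hsize : ∀ {H : Subgroup D}, p * Nat.card H = Nat.card B → Nat.card H = p ^ 2 := fun {H} he =>
    Nat.eq_of_mul_eq_mul_left hp.out.pos (by rw [he, hm]; ring)
  have hexact : ∀ (H : 𝓗), ∃ a : E, a ≠ 0 ∧ ∀ x, x ∈ H.1 ↔ x ∈ B ∧ x • a = a := by
    rintro ⟨H, hH, hHc, a, ha, hf⟩
    refine ⟨a, ha, fun x => ⟨fun hx => ⟨hH hx, hf x hx⟩, fun hx => ?_⟩⟩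
    have hne : B ⊓ MulAction.stabilizer D a ≠ B := fun e => ha (hfix0 a fun y hy => (e.ge hy).2)
    have heq : H = B ⊓ MulAction.stabilizer D a := Subgroup.eq_of_le_of_card_ge
      (le_inf hH fun y hy => hf y hy) (Nat.le_of_mul_le_mul_left
        ((mul_card_le_of_ne hexp inf_le_left hne).trans (by rw [hHc, hm]; exact le_of_eq (by ring)))
        hp.out.pos)
    show x ∈ H
    rw [heq]
    exact hx
  -- two members meet in a subgroup of order p
  have hmeet : ∀ H H' : 𝓗, H.1 ≠ H'.1 → Nat.card ↥(H.1 ⊓ H'.1) = p := by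
    intro H H' hne
    have h1 := card_le_mul_inf H.2.1 H'.2.1 (i := p) (i' := p) (by rw [H.2.2.1, hm]; exact le_of_eq (by ring))
      (by rw [H'.2.2.1, hm]; exact le_of_eq (by ring))
    have h2 := mul_card_le_of_ne (fun x hx => hexp x (H.2.1 hx)) (inf_le_left : H.1 ⊓ H'.1 ≤ H.1)
      (fun e => hne (Subgroup.eq_of_le_of_card_ge (e.ge.trans inf_le_right)
        (by rw [H'.2.2.1, H.2.2.1])))
    rw [H.2.2.1] at h2
    rw [hm] at h1
    refine le_antisymm (Nat.le_of_mul_le_mul_left (h2.trans (le_of_eq (pow_two p))) hp.out.pos) ?_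
    have h3 : p * p * p ≤ p * p * Nat.card ↥(H.1 ⊓ H'.1) := by
      calc p * p * p = p ^ 3 := by ring
        _ ≤ _ := h1
    exact Nat.le_of_mul_le_mul_left h3 (Nat.mul_pos hp.out.pos hp.out.pos)
  -- a pencil through a meet has exactly one subgroup outside 𝓗
  have hpencil : ∀ H H' : 𝓗, H.1 ≠ H'.1 → ∃ Rn : Subgroup D, (Rn ≤ B ∧ Nat.card Rn = p ^ 2 ∧ H.1 ⊓ H'.1 ≤ Rn) ∧
      ∀ K : Subgroup D, K ≤ B → Nat.card K = p ^ 2 → H.1 ⊓ H'.1 ≤ K →
        ((∃ a : E, a ≠ 0 ∧ ∀ x ∈ K, x • a = a) ↔ K ≠ Rn) := by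
    intro H H' hne
    set ℓ := H.1 ⊓ H'.1 with hℓ
    have hℓc := hmeet H H' hne
    obtain ⟨b, hb, hb1⟩ := hnb ℓ (inf_le_left.trans H.2.1) (by rw [hℓc]; exact hp1)
    obtain ⟨a, ha, hsa⟩ := hexact H
    obtain ⟨a', ha', hsa'⟩ := hexact H'
    have hbB := H.2.1 hb.1
    obtain ⟨Rn, Rk, hkn, hnB, hRk, hcR, hcRn, -, hfreeR, hfixR⟩ := semilinear_exponent_p _
      (hloc b a hb1 ha ((hsa b).1 hb.1).2) hinv B (subset_centralizer_of_comm hcomm hbB) hexp
    have hbℓ : Subgroup.zpowers b = ℓ := Subgroup.eq_of_le_of_card_ge (Subgroup.zpowers_le.2 hb) (by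
      rw [hℓc, Nat.card_zpowers, orderOf_eq_prime (hexp b hbB) hb1])
    have hbk : ℓ ≤ Rk := by
      rw [← hbℓ, Subgroup.zpowers_le]
      exact (hRk b).2 ⟨hbB, fun c hc => hc⟩
    have hkℓ : Rk ≤ ℓ := fun x hx => by
      obtain ⟨hxB, hxf⟩ := (hRk x).1 hx
      exact ⟨(hsa x).2 ⟨hxB, hxf a ((hsa b).1 hb.1).2⟩, (hsa' x).2 ⟨hxB, hxf a' ((hsa' b).1 hb.2).2⟩⟩
    have hk : Rk = ℓ := le_antisymm hkℓ hbk
    have hn2 : Nat.card Rn = p ^ 2 := by
      rw [hk, hℓc] at hcRn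
      refine le_antisymm (hcRn.trans (le_of_eq (pow_two p).symm)) ?_
      refine Nat.le_of_mul_le_mul_left ?_ hp.out.pos
      calc p * p ^ 2 = p ^ 3 := by ring
        _ ≤ _ := hm ▸ hcR
    have hℓn : ℓ ≤ Rn := hk ▸ hkn
    refine ⟨Rn, ⟨hnB, hn2, hℓn⟩, fun K hK hKc hℓK => ⟨?_, fun hKne => ?_⟩⟩
    · rintro ⟨c, hc, hcK⟩ rfl
      obtain ⟨x, hx, hxk⟩ : ∃ x ∈ K, x ∉ Rk := by
        by_contra hh
        push Not at hh
        have := Subgroup.card_le_of_le (show K ≤ Rk from hh)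
        rw [hk, hℓc, hKc] at this
        nlinarith
      exact hc (hfreeR x hx hxk c (hcK b (hℓn hb)) (hcK x hx))
    · obtain ⟨x, hx, hxn⟩ : ∃ x ∈ K, x ∉ Rn := by
        by_contra hh
        push Not at hh
        exact hKne (Subgroup.eq_of_le_of_card_ge hh (by rw [hn2, hKc]))
      obtain ⟨c, hcX, hc, hxc⟩ := hfixR ⟨a, ((hsa b).1 hb.1).2, ha⟩ x (hK hx) hxn
      refine ⟨c, hc, fun y hy => ?_⟩
      have hgenK : ℓ ⊔ Subgroup.zpowers x = K := by
        refine Subgroup.eq_of_le_of_card_ge (sup_le hℓK (Subgroup.zpowers_le.2 hx)) ?_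
        have := mul_card_le_of_ne (B := ℓ ⊔ Subgroup.zpowers x)
          (fun z hz => hexp z (hK (sup_le hℓK (Subgroup.zpowers_le.2 hx) hz))) le_sup_left
          (fun e => hxn (hℓn (e.ge (Subgroup.mem_sup_right (Subgroup.mem_zpowers x)))))
        rwa [hℓc, ← pow_two, ← hKc] at this
      have hle : ℓ ⊔ Subgroup.zpowers x ≤ MulAction.stabilizer D c :=
        sup_le (hbℓ ▸ Subgroup.zpowers_le.2 hcX) (Subgroup.zpowers_le.2 hxc)
      exact hle (hgenK.ge hy)
  -- g permutes 𝓗 without fixed points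
  have hqN : q ∣ Nat.card 𝓗 := by
    let cg : Subgroup D → Subgroup D := fun H => H.map (MulAut.conj g).toMonoidHom
    have hcg : ∀ {H : Subgroup D}, H ≤ B → cg H ≤ B := fun hH => by
      rintro _ ⟨x, hx, rfl⟩
      exact hgB x (hH hx)
    have hinj : Function.Injective cg := Subgroup.map_injective (MulAut.conj g).injective
    let σ : Equiv.Perm 𝓗 := Equiv.ofBijective
      (fun H => ⟨cg H.1, hcg H.2.1, by
        rw [Subgroup.card_map_of_injective (f := (MulAut.conj g).toMonoidHom) (MulAut.conj g).injective]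
        exact H.2.2.1, by
        obtain ⟨a, ha, hf⟩ := H.2.2.2
        refine ⟨g • a, (smul_ne_zero_iff_ne g).2 ha, ?_⟩
        rintro _ ⟨x, hx, rfl⟩
        show (g * x * g⁻¹) • g • a = g • a
        rw [mul_smul, mul_smul, inv_smul_smul, hf x hx]⟩)
      (Finite.injective_iff_bijective.1 fun H H' h => Subtype.ext (hinj (Subtype.ext_iff.1 h)))
    have hpow : ∀ (k : ℕ) (H : 𝓗), ((σ ^ k) H).1 = H.1.map (MulAut.conj (g ^ k)).toMonoidHom := by
      intro k
      induction k with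
      | zero => intro H; ext; simp
      | succ k ih =>
        intro H
        rw [pow_succ' σ k, Equiv.Perm.mul_apply]
        show cg _ = _
        simp only [cg]
        rw [ih H, Subgroup.map_map]
        congr 1
        ext x
        simp [pow_succ', mul_assoc]
    have hσ : σ ^ q ^ n = 1 := by
      apply Equiv.ext
      intro H
      apply Subtype.ext
      rw [hpow, hg]
      ext x
      simp
    have hP : IsPGroup q (Subgroup.zpowers σ) := fun ⟨τ, hτ⟩ => by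
      obtain ⟨i, rfl⟩ := hτ
      exact ⟨n, Subtype.ext (by
        show (σ ^ i) ^ q ^ n = 1
        rw [← zpow_natCast, ← zpow_mul, mul_comm, zpow_mul, zpow_natCast, hσ, one_zpow])⟩
    have hempty : MulAction.fixedPoints (Subgroup.zpowers σ) 𝓗 = (∅ : Set 𝓗) := by
      rw [Set.eq_empty_iff_forall_notMem]
      intro H hH
      have hfixH : cg H.1 = H.1 := Subtype.ext_iff.1 (hH ⟨σ, Subgroup.mem_zpowers σ⟩)
      have := hnoinv H.1 H.2.1 (by
        rw [H.2.2.1, hm]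
        calc p ^ 3 = p * p ^ 2 := by ring
          _ ≤ p ^ 2 * p ^ 2 := Nat.mul_le_mul_right _ (Nat.le_self_pow two_ne_zero p))
        (fun x hx => hfixH.le ⟨x, hx, rfl⟩)
      have h2 := H.2.2.1
      rw [this, hm] at h2
      exact absurd ((Nat.pow_right_injective hp.out.two_le) h2) (by omega)
    have := hP.card_modEq_card_fixedPoints 𝓗
    rw [hempty] at this
    simpa [Nat.modEq_zero_iff_dvd] using this
  -- lines in the first member
  haveI : Fintype D := Fintype.ofFinite D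
  let H1 : 𝓗 := ⟨A1, hA1, hsize hc1, a1, ha1, fun x hx => ((hs1 x).1 hx).2⟩
  let H2 : 𝓗 := ⟨A2, hA2, hsize hc2, a2, ha2, fun x hx => ((hs2 x).1 hx).2⟩
  let H3 : 𝓗 := ⟨A3, hA3, hsize hc3, a3, ha3, fun x hx => ((hs3 x).1 hx).2⟩
  let Line := {ℓ : Subgroup D // ℓ ≤ H1.1 ∧ Nat.card ℓ = p}
  let Sec := {ℓ : Line // ∃ H : 𝓗, H ≠ H1 ∧ H.1 ⊓ H1.1 = ℓ.1}
  have hlines : Nat.card Line = p + 1 := by
    let T := {x : D // x ∈ H1.1 ∧ x ∉ (⊥ : Subgroup D)}
    let e : T ≃ (Σ ℓ : Line, {x : D // x ∈ ℓ.1 ∧ x ∉ (⊥ : Subgroup D)}) :=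
      { toFun := fun x => ⟨⟨Subgroup.zpowers (x : D), Subgroup.zpowers_le.2 x.2.1, by
            rw [Nat.card_zpowers]
            exact orderOf_eq_prime (hexp x (H1.2.1 x.2.1)) (fun h => x.2.2 (Subgroup.mem_bot.2 h))⟩,
          x, Subgroup.mem_zpowers _, x.2.2⟩
        invFun := fun z => ⟨z.2, z.1.2.1 z.2.2.1, z.2.2.2⟩
        left_inv := fun x => rfl
        right_inv := by
          rintro ⟨ℓ, x, hxℓ, hx1⟩
          refine Sigma.subtype_ext (Subtype.ext ?_) rfl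
          refine Subgroup.eq_of_le_of_card_ge (Subgroup.zpowers_le.2 hxℓ) ?_
          show Nat.card ℓ.1 ≤ Nat.card (Subgroup.zpowers x)
          rw [ℓ.2.2, Nat.card_zpowers,
            orderOf_eq_prime (hexp x (H1.2.1 (ℓ.2.1 hxℓ))) (fun h => hx1 (Subgroup.mem_bot.2 h))] }
    have hdiff : ∀ (H : Subgroup D), Nat.card {x : D // x ∈ H ∧ x ∉ (⊥ : Subgroup D)} = Nat.card H - 1 := by
      intro H
      have h1 := Set.ncard_sdiff (show ((⊥ : Subgroup D) : Set D) ⊆ H from fun x hx => by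
        rw [Subgroup.mem_bot.1 hx]; exact H.one_mem)
      rw [← Nat.card_coe_set_eq, ← Nat.card_coe_set_eq, ← Nat.card_coe_set_eq] at h1
      refine h1.trans ?_
      rw [show Nat.card ((⊥ : Subgroup D) : Set D) = 1 from Subgroup.card_bot]
      rfl
    have hsum := Nat.card_congr e
    rw [hdiff, H1.2.2.1, Nat.card_sigma,
      Finset.sum_congr rfl (fun ℓ _ => by rw [hdiff, ℓ.2.2] :
        ∀ ℓ ∈ (Finset.univ : Finset Line), Nat.card {x : D // x ∈ ℓ.1 ∧ x ∉ (⊥ : Subgroup D)} = p - 1),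
      Finset.sum_const, Finset.card_univ, smul_eq_mul, ← Nat.card_eq_fintype_card] at hsum
    have e1 : p ^ 2 - 1 = (p + 1) * (p - 1) := by rw [← Nat.sq_sub_sq, one_pow]
    rw [e1] at hsum
    exact (Nat.eq_of_mul_eq_mul_right (by omega) hsum).symm
  have hl_le : Nat.card Sec ≤ p + 1 := by
    rw [← hlines]
    exact Nat.card_le_card_of_injective _ Subtype.val_injective
  -- each secant line carries p - 1 further members
  have hN : Nat.card 𝓗 = 1 + Nat.card Sec * (p - 1) := by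
    let T := {H : 𝓗 // H ≠ H1}
    have hT : Nat.card 𝓗 = 1 + Nat.card T := by
      rw [Nat.card_eq_fintype_card, Nat.card_eq_fintype_card, Fintype.card_subtype_compl,
        Fintype.card_subtype_eq]
      have : 1 ≤ Fintype.card 𝓗 := Fintype.card_pos_iff.2 ⟨H1⟩
      omega
    let f : T → Sec := fun H => ⟨⟨H.1.1 ⊓ H1.1, inf_le_right, hmeet H.1 H1 fun e => H.2 (Subtype.ext e)⟩,
      H.1, H.2, rfl⟩
    rw [hT, ← Nat.card_congr (Equiv.sigmaFiberEquiv f), Nat.card_sigma]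
    have hfib : ∀ ℓ : Sec, Nat.card {H : T // f H = ℓ} = p - 1 := by
      rintro ⟨⟨ℓ, hℓ1, hℓc⟩, H0, hH0, hH0ℓ⟩
      obtain ⟨Rn, ⟨hRB, hRc, hℓR⟩, hiff⟩ := hpencil H0 H1 fun e => hH0 (Subtype.ext e)
      rw [hH0ℓ] at hℓR hiff
      let P := {K : Subgroup D // K ≤ B ∧ Nat.card K = p ^ 2 ∧ ℓ ≤ K}
      let R0 : P := ⟨Rn, hRB, hRc, hℓR⟩
      let K1 : P := ⟨H1.1, H1.2.1, H1.2.2.1, hℓ1⟩
      have hK1 : K1 ≠ R0 := fun e =>
        (hiff H1.1 H1.2.1 H1.2.2.1 hℓ1).1 H1.2.2.2 (Subtype.ext_iff.1 e)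
      let g' : {H : T // f H = (⟨⟨ℓ, hℓ1, hℓc⟩, H0, hH0, hH0ℓ⟩ : Sec)} → {K : P // K ∉ ({K1, R0} : Finset P)} :=
        fun H => ⟨⟨H.1.1.1, H.1.1.2.1, H.1.1.2.2.1, by
          have : H.1.1.1 ⊓ H1.1 = ℓ := congrArg (fun s : Sec => s.1.1) H.2
          exact this.ge.trans inf_le_left⟩, by
          simp only [Finset.mem_insert, Finset.mem_singleton, not_or]
          refine ⟨fun e => H.1.2 (Subtype.ext (congrArg (fun z : P => z.1) e)), fun e => ?_⟩
          have hle : ℓ ≤ H.1.1.1 := by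
            have : H.1.1.1 ⊓ H1.1 = ℓ := congrArg (fun s : Sec => s.1.1) H.2
            exact this.ge.trans inf_le_left
          exact (hiff H.1.1.1 H.1.1.2.1 H.1.1.2.2.1 hle).1 H.1.1.2.2.2 (Subtype.ext_iff.1 e)⟩
      have hg' : Function.Bijective g' := by
        constructor
        · intro H H' h
          exact Subtype.ext (Subtype.ext (Subtype.ext (congrArg (fun z => z.1.1) h)))
        · rintro ⟨⟨K, hKB, hKc, hℓK⟩, hK⟩
          simp only [Finset.mem_insert, Finset.mem_singleton, not_or] at hK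
          have hKmem := (hiff K hKB hKc hℓK).2 fun e => hK.2 (Subtype.ext e)
          let KH : 𝓗 := ⟨K, hKB, hKc, hKmem⟩
          have hne : KH ≠ H1 := fun e => hK.1 (Subtype.ext (congrArg (fun z : 𝓗 => z.1) e))
          have hinf : K ⊓ H1.1 = ℓ := (Subgroup.eq_of_le_of_card_ge (le_inf hℓK hℓ1)
            (by rw [hmeet KH H1 fun e => hne (Subtype.ext e), hℓc])).symm
          exact ⟨⟨⟨KH, hne⟩, Subtype.ext (Subtype.ext hinf)⟩, Subtype.ext (Subtype.ext rfl)⟩
      rw [Nat.card_eq_of_bijective _ hg', Nat.card_eq_fintype_card, Fintype.card_subtype_compl,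
        Fintype.card_coe, Finset.card_pair hK1, ← Nat.card_eq_fintype_card,
        pencil_card hcomm hexp hm (hℓ1.trans H1.2.1) hℓc]
      omega
    rw [Finset.sum_congr rfl fun ℓ _ => hfib ℓ, Finset.sum_const, Finset.card_univ, smul_eq_mul,
      ← Nat.card_eq_fintype_card]
  -- at least p secant lines
  have h23 : H2.1 ≠ H3.1 := fun e => hh''3 (e.le hh''.2)
  have hl_ge : p ≤ Nat.card Sec := by
    obtain ⟨Rn, ⟨hRB, hRc, hℓR⟩, hiff⟩ := hpencil H2 H3 h23
    set ℓ' := H2.1 ⊓ H3.1 with hℓ'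
    have hℓ'c := hmeet H2 H3 h23
    have hℓ'B : ℓ' ≤ B := inf_le_left.trans H2.2.1
    have hnot : ¬ ℓ' ≤ H1.1 := by
      intro hle
      have h12 : H1.1 ≠ H2.1 := fun e => hh'2 (e.le hh')
      have he : ℓ' = H1.1 ⊓ H2.1 := Subgroup.eq_of_le_of_card_ge (le_inf hle inf_le_left)
        (by rw [hℓ'c, hmeet H1 H2 h12])
      exact hh''3 (he.ge hh'').2
    let P := {K : Subgroup D // K ≤ B ∧ Nat.card K = p ^ 2 ∧ ℓ' ≤ K}
    let R0 : P := ⟨Rn, hRB, hRc, hℓR⟩
    have hmem : ∀ K : {K : P // K ≠ R0}, ∃ H : 𝓗, H.1 = K.1.1 :=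
      fun K => ⟨⟨K.1.1, K.1.2.1, K.1.2.2.1, (hiff K.1.1 K.1.2.1 K.1.2.2.1 K.1.2.2.2).2
        fun e => K.2 (Subtype.ext e)⟩, rfl⟩
    choose MH hMH using hmem
    have hMne : ∀ K, MH K ≠ H1 := fun K e => hnot (by rw [← e, hMH]; exact K.1.2.2.2)
    let f : {K : P // K ≠ R0} → Sec := fun K => ⟨⟨(MH K).1 ⊓ H1.1, inf_le_right,
      hmeet _ _ fun e => hMne K (Subtype.ext e)⟩, MH K, hMne K, rfl⟩
    have hf : Function.Injective f := by
      intro K K' h
      have h' : (MH K).1 ⊓ H1.1 = (MH K').1 ⊓ H1.1 := congrArg (fun s : Sec => s.1.1) h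
      set ℓ := (MH K).1 ⊓ H1.1 with hℓdef
      have hℓc : Nat.card ℓ = p := hmeet _ _ fun e => hMne K (Subtype.ext e)
      have hgen : ∀ X : 𝓗, ℓ ≤ X.1 → ℓ' ≤ X.1 → ℓ ⊔ ℓ' = X.1 := by
        intro X hX hX'
        refine Subgroup.eq_of_le_of_card_ge (sup_le hX hX') ?_
        have hne : ℓ ≠ ℓ ⊔ ℓ' := fun e => hnot
          ((le_sup_right : ℓ' ≤ ℓ ⊔ ℓ').trans (e.ge.trans inf_le_right))
        have := mul_card_le_of_ne (fun x hx => hexp x (X.2.1 (sup_le hX hX' hx))) le_sup_left hne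
        rw [hℓc, ← pow_two] at this
        rw [X.2.2.1]
        exact this
      have e1 := hgen (MH K) inf_le_left (by rw [hMH]; exact K.1.2.2.2)
      have e2 := hgen (MH K') (h'.le.trans inf_le_left) (by rw [hMH]; exact K'.1.2.2.2)
      exact Subtype.ext (Subtype.ext (by rw [← hMH K, ← hMH K', ← e1, ← e2]))
    have h1 := Nat.card_le_card_of_injective f hf
    rw [Nat.card_eq_fintype_card, Fintype.card_subtype_compl, Fintype.card_subtype_eq,
      ← Nat.card_eq_fintype_card, pencil_card hcomm hexp hm hℓ'B hℓ'c] at h1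
    simpa using h1
  -- q divides p² + p + 1
  have hq3 : q ∣ p ^ 2 + p + 1 := by
    let φ : MulAut B := MulEquiv.ofBijective
      ({ toFun := fun x => ⟨g * x * g⁻¹, hgB x x.2⟩
         map_one' := Subtype.ext (by simp)
         map_mul' := fun x y => Subtype.ext (by show g * (x * y : D) * g⁻¹ = _; simp [mul_assoc]) } : B →* B)
      (Finite.injective_iff_bijective.1 fun x y h => Subtype.ext (by simpa using Subtype.ext_iff.1 h))
    have hφpow : ∀ (j : ℕ) (x : B), (((φ ^ j) x : B) : D) = g ^ j * x * (g ^ j)⁻¹ := by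
      intro j
      induction j with
      | zero => intro x; simp
      | succ j ih =>
        intro x
        rw [pow_succ' φ, MulAut.mul_apply]
        show g * ((φ ^ j) x : B) * g⁻¹ = _
        rw [ih x, pow_succ' g]
        group
    have hφ : φ ^ q ^ n = 1 := MulEquiv.ext fun x => Subtype.ext (by rw [hφpow, hg]; simp)
    have hP : IsPGroup q (Subgroup.zpowers φ) := fun ⟨τ, hτ⟩ => by
      obtain ⟨i, rfl⟩ := hτ
      exact ⟨n, Subtype.ext (by
        show (φ ^ i) ^ q ^ n = 1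
        rw [← zpow_natCast, ← zpow_mul, mul_comm, zpow_mul, zpow_natCast, hφ, one_zpow])⟩
    have hfixed : MulAction.fixedPoints (Subgroup.zpowers φ) B = ({1} : Set B) := by
      ext x
      constructor
      · intro h
        exact Subtype.ext (hfree x x.2 (Subtype.ext_iff.1 (h ⟨φ, Subgroup.mem_zpowers φ⟩)))
      · rintro rfl τ
        exact map_one (τ : MulAut B)
    have hmod := hP.card_modEq_card_fixedPoints B
    rw [hfixed] at hmod
    simp only [Nat.card_eq_fintype_card, Fintype.card_ofSubsingleton] at hmod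
    rw [← Nat.card_eq_fintype_card, hm] at hmod
    have hd : q ∣ p ^ 3 - 1 := (Nat.modEq_iff_dvd' (Nat.one_le_pow _ _ hp.out.pos)).1 hmod.symm
    have e : p ^ 3 - 1 = (p - 1) * (p ^ 2 + p + 1) := by
      have h1 : 1 ≤ p ^ 3 := Nat.one_le_pow _ _ hp.out.pos
      zify [h1, hp.out.one_le]
      ring
    rw [e] at hd
    exact (hq.out.dvd_mul.1 hd).resolve_left fun h => by
      have := Nat.le_of_dvd (by omega) h
      omega
  -- conclude
  rw [hN] at hqN
  have hcases : Nat.card Sec = p ∨ Nat.card Sec = p + 1 := by omega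
  rcases hcases with hl | hl <;> rw [hl] at hqN
  · have e : p ^ 2 + p + 1 = (1 + p * (p - 1)) + 2 * p := by zify [hp.out.one_le]; ring
    rw [e] at hq3
    have h2 := (hq.out.dvd_mul.1 ((Nat.dvd_add_right hqN).1 hq3))
    rcases h2 with h2 | h2
    · have := Nat.le_of_dvd two_pos h2; omega
    · have := Nat.le_of_dvd (by omega) h2; omega
  · have e : 1 + (p + 1) * (p - 1) = p ^ 2 := by zify [hp.out.one_le]; ring
    rw [e] at hqN
    have := Nat.le_of_dvd (by omega) (hq.out.dvd_of_dvd_pow hqN)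
    omega

end CfsgLib.TransOdd
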