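import Cfsg.Agent.Lib.TransOdd.Key
import Cfsg.Agent.Lib.RankOneInvol.OddGroup
import Cfsg.Agent.Lib.Solvable.Fitting

/-!
An odd-order group transitive on the nonzero vectors of a 2-torsion group, with an involutory
automorphism whose fixed points are the stabiliser of a vector, is semilinear: the inverted elements
form a cyclic normal subgroup.
-/

set_option autoImplicit false

namespace CfsgLib.TransOdd

open CfsgLib.RankOneInvol

universe u v

/-- the hypotheses -/
structure Twisted {D : Type u} [Group D] {E : Type v} [AddCommGroup E] [DistribMulAction D E]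
    (τ : D ≃* D) (s0 : E) : Prop where
  odd : Odd (Nat.card D)
  two : ∀ e : E, 2 • e = 0
  ne_zero : s0 ≠ 0
  invol : ∀ g, τ (τ g) = g
  trans : ∀ e : E, e ≠ 0 → ∃ g : D, g • s0 = e
  fix : ∀ g, τ g = g ↔ g • s0 = s0

variable {D : Type u} [Group D] [Finite D] {E : Type v} [AddCommGroup E] [DistribMulAction D E]
variable {τ : D ≃* D} {s0 : E}

omit [Finite D] in
theorem Twisted.odd_orderOf (h : Twisted τ s0) (g : D) : Odd (orderOf g) :=
  h.odd.of_dvd_nat (orderOf_dvd_natCard g)

theorem Twisted.exists_decomp (h : Twisted τ s0) (g : D) :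
    ∃ k v : D, τ k = k⁻¹ ∧ τ v = v ∧ g = k * v := by
  obtain ⟨j, hj⟩ := exists_pow_sq_eq (h.odd_orderOf (g * (τ g)⁻¹))
  have hk : τ ((g * (τ g)⁻¹) ^ j) = ((g * (τ g)⁻¹) ^ j)⁻¹ := by
    rw [map_pow, ← inv_pow]
    congr 1
    rw [map_mul, map_inv, h.invol]
    group
  generalize (g * (τ g)⁻¹) ^ j = k at hj hk
  refine ⟨k, k⁻¹ * g, hk, ?_, by group⟩
  rw [map_mul, map_inv, hk, inv_inv]
  calc k * τ g = k⁻¹ * (k * k) * τ g := by group
    _ = k⁻¹ * g := by rw [hj]; group

theorem Twisted.eq_of_smul_eq (h : Twisted τ s0) {k k' : D} (hk : τ k = k⁻¹) (hk' : τ k' = k'⁻¹)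
    (he : k • s0 = k' • s0) : k = k' := by
  have h1 : τ (k'⁻¹ * k) = k'⁻¹ * k := (h.fix _).2 (by rw [mul_smul, he, inv_smul_smul])
  rw [map_mul, map_inv, hk, hk', inv_inv] at h1
  refine (sq_injective_of_odd (h.odd_orderOf k') (h.odd_orderOf k) ?_).symm
  calc k' * k' = k' * (k' * k⁻¹) * k := by group
    _ = k' * (k'⁻¹ * k) * k := by rw [h1]
    _ = k * k := by group

theorem Twisted.exists_inverted (h : Twisted τ s0) {e : E} (he : e ≠ 0) :
    ∃ k : D, τ k = k⁻¹ ∧ k • s0 = e := by
  obtain ⟨g, rfl⟩ := h.trans e he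
  obtain ⟨k, v, hk, hv, rfl⟩ := h.exists_decomp g
  exact ⟨k, hk, by rw [mul_smul, (h.fix v).1 hv]⟩

theorem Twisted.eq_one_of_fixed (h : Twisted τ s0) {k : D} (hk : τ k = k⁻¹) {e : E} (he : e ≠ 0)
    (hf : k • e = e) : k = 1 := by
  obtain ⟨k1, hk1, rfl⟩ := h.exists_inverted he
  have h1 : τ (k1⁻¹ * k * k1) = k1⁻¹ * k * k1 :=
    (h.fix _).2 (by rw [mul_smul, mul_smul, hf, inv_smul_smul])
  rw [map_mul, map_mul, map_inv, hk, hk1, inv_inv] at h1
  refine eq_one_of_conj_eq_inv (g := k1 * k1) (h.odd_orderOf _) (h.odd_orderOf _) ?_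
  calc k1 * k1 * k * (k1 * k1)⁻¹ = k1 * (k1 * k * k1⁻¹) * k1⁻¹ := by group
    _ = k⁻¹ := by
      have h2 : k1 * k * k1⁻¹ = k1⁻¹ * k⁻¹ * k1 := by
        calc k1 * k * k1⁻¹ = (k1 * k⁻¹ * k1⁻¹)⁻¹ := by group
          _ = (k1⁻¹ * k * k1)⁻¹ := by rw [h1]
          _ = _ := by group
      rw [h2]; group

omit [Finite D] in
theorem commute_iSup {ι : Type*} {P : ι → Subgroup D}
    (h : ∀ i j, ∀ x ∈ P i, ∀ y ∈ P j, x * y = y * x) :
    ∀ x ∈ ⨆ i, P i, ∀ y ∈ ⨆ i, P i, x * y = y * x := by
  rw [Subgroup.iSup_eq_closure]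
  refine commute_closure ?_
  intro a ha b hb
  obtain ⟨i, hi⟩ := Set.mem_iUnion.1 ha
  obtain ⟨j, hj⟩ := Set.mem_iUnion.1 hb
  exact h i j a hi b hj

section FixedAction

variable (v : D)

/-- the centraliser acts on the fixed vectors -/
@[instance_reducible]
def fixedAction : DistribMulAction (Subgroup.centralizer ({v} : Set D)) (fixedAdd (E := E) v) where
  smul c x := ⟨(c : D) • (x : E), by
    show v • (c : D) • (x : E) = (c : D) • (x : E)
    rw [smul_smul, ← Subgroup.mem_centralizer_singleton_iff.1 c.2, mul_smul,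
      show v • (x : E) = x from x.2]⟩
  one_smul x := Subtype.ext (one_smul D (x : E))
  mul_smul a b x := Subtype.ext (mul_smul (a : D) (b : D) (x : E))
  smul_zero a := Subtype.ext (smul_zero (a : D))
  smul_add a x y := Subtype.ext (smul_add (a : D) (x : E) (y : E))

end FixedAction

variable [Finite E] [FaithfulSMul D E]

/-- the centraliser of an element fixing `s0` is semilinear on its fixed vectors -/
theorem Twisted.local_base (h : Twisted τ s0)
    (ih : ∀ (D' : Type v) [Group D'] [Finite D'] (E' : Type v) [AddCommGroup E'] [Finite E']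
      [DistribMulAction D' E'] [FaithfulSMul D' E'] (τ' : D' ≃* D') (s' : E'),
      Nat.card E' < Nat.card E → Twisted τ' s' → IsSemilinearOn (⊤ : AddSubgroup E') (Set.univ : Set D'))
    {v : D} (hv1 : v ≠ 1) (hv : v • s0 = s0) :
    IsSemilinearOn (fixedAdd (E := E) v) (Subgroup.centralizer ({v} : Set D) : Set D) := by
  set C := Subgroup.centralizer ({v} : Set D) with hC
  set X := fixedAdd (E := E) v with hX
  letI := fixedAction (E := E) v
  have hvτ : τ v = v := (h.fix v).2 hv
  let f : C →* (AddMonoid.End X)ˣ := (DistribMulAction.toAddMonoidEnd C X).toHomUnits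
  have hfa : ∀ (c : C) (x : X), ((f c • x : X) : E) = (c : D) • (x : E) := fun c x => rfl
  have hτC : ∀ c : C, τ c ∈ C := fun c => Subgroup.mem_centralizer_singleton_iff.2 (by
    have := congrArg τ (Subgroup.mem_centralizer_singleton_iff.1 c.2)
    rwa [map_mul, map_mul, hvτ] at this)
  let τC : C →* C :=
    { toFun := fun c => ⟨τ c, hτC c⟩
      map_one' := Subtype.ext (map_one τ)
      map_mul' := fun a b => Subtype.ext (map_mul τ (a : D) b) }
  let x0 : X := ⟨s0, hv⟩
  have hker : ∀ c : C, f c = 1 → τ (c : D) = c := fun c hc => (h.fix _).2 (by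
    have := hfa c x0
    rw [hc, one_smul] at this
    exact this.symm)
  have hsurj := f.rangeRestrict_surjective
  have hle : f.rangeRestrict.ker ≤ (f.rangeRestrict.comp τC).ker := by
    intro c hc
    rw [MonoidHom.ker_rangeRestrict] at hc
    rw [MonoidHom.mem_ker, MonoidHom.comp_apply, show τC c = c from Subtype.ext (hker c hc)]
    exact Subtype.ext hc
  let t1 : f.range →* f.range := f.rangeRestrict.liftOfSurjective hsurj ⟨_, hle⟩
  have ht1 : ∀ c : C, t1 (f.rangeRestrict c) = f.rangeRestrict (τC c) := fun c =>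
    MonoidHom.liftOfRightInverse_comp_apply _ _ (Function.rightInverse_surjInv hsurj) ⟨_, hle⟩ c
  have ht11 : ∀ d, t1 (t1 d) = d := by
    intro d
    obtain ⟨c, rfl⟩ := hsurj d
    rw [ht1, ht1]
    congr 1
    exact Subtype.ext (h.invol c)
  let τ' : f.range ≃* f.range :=
    { toFun := t1, invFun := t1, left_inv := ht11, right_inv := ht11, map_mul' := map_mul t1 }
  haveI : FaithfulSMul f.range X := ⟨fun {a b} hab => Subtype.ext (Units.ext (AddMonoidHom.ext hab))⟩
  haveI : Finite (AddMonoid.End X) :=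
    Finite.of_injective (fun φ : AddMonoid.End X => (φ : X → X)) DFunLike.coe_injective
  have hne : X ≠ ⊤ := fun e => hv1 (eq_of_smul_eq_smul fun a : E => by
    rw [one_smul]; exact (e.ge (AddSubgroup.mem_top a) : a ∈ X))
  have hcard : Nat.card X < Nat.card E :=
    lt_of_le_of_ne (Nat.le_of_dvd Nat.card_pos X.card_addSubgroup_dvd_card)
      fun e => hne (AddSubgroup.eq_top_of_card_eq X e)
  have htw : Twisted τ' x0 := by
    refine ⟨?_, fun e => Subtype.ext (h.two e), fun e => h.ne_zero (Subtype.ext_iff.1 e), ht11, ?_, ?_⟩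
    · exact h.odd.of_dvd_nat ((Subgroup.card_range_dvd f).trans C.card_subgroup_dvd_card)
    · intro e he
      obtain ⟨k, hk, hke⟩ := h.exists_inverted (fun e0 => he (Subtype.ext e0) : (e : E) ≠ 0)
      have hk' : τ (v * k * v⁻¹) = (v * k * v⁻¹)⁻¹ := by
        rw [map_mul, map_mul, map_inv, hk, hvτ]; group
      have hkv : v * k * v⁻¹ = k := h.eq_of_smul_eq hk' hk (by
        rw [mul_smul, mul_smul, inv_smul_eq_iff.2 hv.symm, hke]
        exact e.2)
      have hkC : k ∈ C := Subgroup.mem_centralizer_singleton_iff.2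
        (mul_inv_eq_iff_eq_mul.1 hkv).symm
      exact ⟨f.rangeRestrict ⟨k, hkC⟩, Subtype.ext ((hfa ⟨k, hkC⟩ x0).trans hke)⟩
    · intro d
      obtain ⟨c, rfl⟩ := hsurj d
      constructor
      · intro hd
        have hd' : f (τC c) = f c := congrArg Subtype.val ((ht1 c).symm.trans hd)
        have h2 : τ ((τC c * c⁻¹ : C) : D) = (τC c * c⁻¹ : C) :=
          hker _ (by rw [map_mul, map_inv, hd', mul_inv_cancel])
        have h3 : τ (τ (c : D) * (c : D)⁻¹) = τ (c : D) * (c : D)⁻¹ := h2
        have h4 : τ (c : D) = c := by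
          rw [map_mul, map_inv, h.invol] at h3
          have h5 := eq_one_of_sq_of_odd (h.odd_orderOf (τ (c : D) * (c : D)⁻¹)) (by
            nth_rw 1 [← h3]
            group)
          exact mul_inv_eq_one.1 h5
        exact Subtype.ext ((hfa c x0).trans ((h.fix c).1 h4))
      · intro hd
        have h1 : τ (c : D) = c := (h.fix _).2 ((hfa c x0).symm.trans (congrArg Subtype.val hd))
        exact (ht1 c).trans (congrArg _ (Subtype.ext h1))
  obtain ⟨L, hF, hfin, e, he, hrange, hact⟩ := ih f.range X τ' x0 hcard htw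
  refine ⟨L, hF, hfin, X.subtype.comp e, Subtype.val_injective.comp he, ?_, fun g hg => ?_⟩
  · rw [AddMonoidHom.range_comp, hrange, ← AddMonoidHom.range_eq_map, AddSubgroup.range_subtype]
  · obtain ⟨α, σ, hασ⟩ := hact (f.rangeRestrict ⟨g, hg⟩) (Set.mem_univ _)
    exact ⟨α, σ, fun l => (hfa ⟨g, hg⟩ (e l)).symm.trans (congrArg Subtype.val (hασ l))⟩

/-- the local hypothesis holds -/
theorem Twisted.locallySemilinear (h : Twisted τ s0)
    (ih : ∀ (D' : Type v) [Group D'] [Finite D'] (E' : Type v) [AddCommGroup E'] [Finite E']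
      [DistribMulAction D' E'] [FaithfulSMul D' E'] (τ' : D' ≃* D') (s' : E'),
      Nat.card E' < Nat.card E → Twisted τ' s' → IsSemilinearOn (⊤ : AddSubgroup E') (Set.univ : Set D')) :
    LocallySemilinear D E := by
  intro b a hb ha hba
  obtain ⟨k, -, rfl⟩ := h.exists_inverted ha
  obtain ⟨L, hF, hfin, e, he, hrange, hact⟩ := h.local_base ih (v := k⁻¹ * b * k)
    (fun e => hb (by
      calc b = k * (k⁻¹ * b * k) * k⁻¹ := by group
        _ = 1 := by rw [e]; group))
    (by rw [mul_smul, mul_smul, hba, inv_smul_smul])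
  refine ⟨L, hF, hfin, (DistribMulAction.toAddMonoidHom E k).comp e,
    (MulAction.injective k).comp he, ?_, fun g hg => ?_⟩
  · ext x
    constructor
    · rintro ⟨l, rfl⟩
      have hl : e l ∈ fixedAdd (E := E) (k⁻¹ * b * k) := hrange.le ⟨l, rfl⟩
      have hl' : (k⁻¹ * b * k) • e l = e l := hl
      show b • k • e l = k • e l
      rw [mul_smul, mul_smul, inv_smul_eq_iff] at hl'
      exact hl'
    · intro hx
      have hx' : k⁻¹ • x ∈ fixedAdd (E := E) (k⁻¹ * b * k) := by
        show (k⁻¹ * b * k) • k⁻¹ • x = k⁻¹ • x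
        rw [mul_smul, smul_inv_smul, mul_smul, show b • x = x from hx]
      obtain ⟨l, hl⟩ := hrange.ge hx'
      exact ⟨l, by show k • e l = x; rw [hl, smul_inv_smul]⟩
  · have hgb : g * b = b * g := Subgroup.mem_centralizer_singleton_iff.1 hg
    obtain ⟨α, σ, hασ⟩ := hact (k⁻¹ * g * k) (Subgroup.mem_centralizer_singleton_iff.2 (by
      calc k⁻¹ * g * k * (k⁻¹ * b * k) = k⁻¹ * (g * b) * k := by group
        _ = k⁻¹ * (b * g) * k := by rw [hgb]
        _ = _ := by group))
    refine ⟨α, σ, fun l => ?_⟩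
    show g • k • e l = k • e (α * σ l)
    rw [← hασ l, smul_smul, smul_smul]
    group

theorem Twisted.structure_of_local (h : Twisted τ s0) (hloc : LocallySemilinear D E) :
    IsSemilinearOn (⊤ : AddSubgroup E) (Set.univ : Set D) ∧
      ∃ k0 : D, (Subgroup.zpowers k0).Normal ∧ ∀ k, τ k = k⁻¹ ↔ k ∈ Subgroup.zpowers k0 := by
  classical
  haveI := isSolvable_of_locallySemilinear h.odd h.two hloc
  set F := Cfsg.fittingSubgroup D with hFdef
  haveI hFn : F.Normal := Fitting.fitting_normal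
  -- the cores
  have hcore : ∀ r : ℕ, r.Prime → IsMulCommutative (Cfsg.pCore r D) ∧
      ∀ g ∈ Cfsg.pCore r D, g ≠ 1 → ∀ a : E, g • a = a → a = 0 := by
    intro r hr
    haveI := Fact.mk hr
    have hP := Fitting.pCore_isPGroup (G := D) r
    by_cases hr2 : r = 2
    · have hb : Cfsg.pCore r D = ⊥ := by
        obtain ⟨n, hn⟩ := hP.exists_card_eq
        have hodd : Odd (r ^ n) := hn ▸ h.odd.of_dvd_nat (Subgroup.card_subgroup_dvd_card _)
        refine Subgroup.eq_bot_of_card_eq _ ?_
        rcases Nat.eq_zero_or_pos n with rfl | hn0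
        · simpa using hn
        · exact absurd hodd (Nat.not_odd_iff_even.2 (Nat.even_pow.2 ⟨hr2 ▸ even_two, hn0.ne'⟩))
      rw [hb]
      exact ⟨inferInstance, fun g hg hg1 => absurd (Subgroup.mem_bot.1 hg) hg1⟩
    haveI : FaithfulSMul (Cfsg.pCore r D) E :=
      ⟨fun {a b} hab => Subtype.ext (eq_of_smul_eq_smul hab)⟩
    haveI := Fitting.pCore_normal (G := D) r
    have hconst : ∀ a b : E, a ≠ 0 → b ≠ 0 →
        Nat.card (MulAction.stabilizer (Cfsg.pCore r D) a) =
          Nat.card (MulAction.stabilizer (Cfsg.pCore r D) b) := by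
      have key : ∀ (g : D) (a : E),
          Nat.card (MulAction.stabilizer (Cfsg.pCore r D) a) ≤
            Nat.card (MulAction.stabilizer (Cfsg.pCore r D) (g • a)) := by
        intro g a
        refine Nat.card_le_card_of_injective
          (fun x => ⟨⟨g * (x.1 : D) * g⁻¹, (Fitting.pCore_normal r).conj_mem _ x.1.2 g⟩,
            MulAction.mem_stabilizer_iff.2 (by
              show (g * (x.1 : D) * g⁻¹) • g • a = g • a
              rw [mul_smul, mul_smul, inv_smul_smul]
              exact congrArg (g • ·) x.2)⟩) ?_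
        intro x y hxy
        exact Subtype.ext (Subtype.ext (by simpa using congrArg (fun z => ((z.1 : Cfsg.pCore r D) : D)) hxy))
      intro a b ha hb
      obtain ⟨g, rfl⟩ := h.trans a ha
      obtain ⟨g', rfl⟩ := h.trans b hb
      refine le_antisymm ?_ ?_
      · simpa [smul_smul] using key (g' * g⁻¹) (g • s0)
      · simpa [smul_smul] using key (g * g'⁻¹) (g' • s0)
    obtain ⟨hcyc, hfpf⟩ := ConstStab.cyclic_and_fpf (E := E) hr2 hP Nat.prime_two h.two hconst
    exact ⟨IsCyclic.commutative, fun g hg hg1 a ha =>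
      hfpf ⟨g, hg⟩ (fun e => hg1 (Subtype.ext_iff.1 e)) a ha⟩
  have hFab : ∀ x ∈ F, ∀ y ∈ F, x * y = y * x := by
    rw [hFdef, Fitting.fitting_eq_iSup_pCore]
    refine commute_iSup fun i j x hx y hy => ?_
    rcases eq_or_ne i j with rfl | hij
    · haveI := (hcore i (Nat.prime_of_mem_primeFactors i.2)).1
      exact congrArg Subtype.val (mul_comm' (⟨x, hx⟩ : Cfsg.pCore (i : ℕ) D) ⟨y, hy⟩)
    · exact (Fitting.commute_pCore_of_ne (Nat.prime_of_mem_primeFactors i.2)
        (Nat.prime_of_mem_primeFactors j.2) (fun e => hij (Subtype.ext e)) hx hy).eq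
  have hFfpf : ∀ x ∈ F, x ≠ 1 → ∀ a : E, x • a = a → a = 0 := by
    intro x hx hx1 a ha
    obtain ⟨r, hr, hrd⟩ := Nat.exists_prime_and_dvd (fun e => hx1 (orderOf_eq_one_iff.1 e))
    haveI := Fact.mk hr
    set y := x ^ (orderOf x / r) with hy
    have hyo : orderOf y = r := orderOf_pow_orderOf_div (orderOf_pos x).ne' hrd
    have hyF : y ∈ F := pow_mem hx _
    have hpg : IsPGroup r (Subgroup.zpowers (⟨y, hyF⟩ : F)) :=
      IsPGroup.of_card (n := 1) (by rw [Nat.card_zpowers, Subgroup.orderOf_mk, hyo, pow_one])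
    obtain ⟨P, hP⟩ := hpg.exists_le_sylow
    have hyc : y ∈ Cfsg.pCore r D := by
      rw [← Fitting.sylow_fitting_eq_pCore P]
      exact ⟨⟨y, hyF⟩, hP (Subgroup.mem_zpowers _), rfl⟩
    exact (hcore r hr).2 y hyc (fun e => hr.ne_one (by rw [← hyo, e, orderOf_one])) a
      (pow_mem (show x ∈ MulAction.stabilizer D a from ha) _)
  have hFτ : ∀ x ∈ F, τ x ∈ F := fun x hx => by
    rw [hFdef, ← Fitting.fitting_map_mulEquiv τ]
    exact ⟨x, hx, rfl⟩
  have hFK : ∀ x ∈ F, τ x = x⁻¹ := by
    intro x hx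
    have hy : τ (x * τ x) = x * τ x := by
      rw [map_mul, h.invol, hFab _ (hFτ x hx) x hx]
    have h1 : x * τ x = 1 := by
      by_contra hne
      exact h.ne_zero (hFfpf _ (mul_mem hx (hFτ x hx)) hne s0 ((h.fix _).1 hy))
    exact eq_inv_of_mul_eq_one_right h1
  have hKF : ∀ k, τ k = k⁻¹ → k ∈ F := by
    intro k hk
    apply Fitting.centralizer_fitting_le
    refine Subgroup.mem_centralizer_iff.2 fun f hf => ?_
    have h1 := hFK _ (hFn.conj_mem f hf k)
    rw [map_mul, map_mul, map_inv, hFK f hf, hk, inv_inv] at h1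
    have h2 : Commute (k * k) f⁻¹ := by
      show k * k * f⁻¹ = f⁻¹ * (k * k)
      calc k * k * f⁻¹ = k * (k * f * k⁻¹)⁻¹ * k := by group
        _ = k * (k⁻¹ * f⁻¹ * k) * k := by rw [h1]
        _ = _ := by group
    obtain ⟨j, hj⟩ := exists_pow_sq_eq (h.odd_orderOf k)
    have h3 : Commute k f⁻¹ := by
      have h4 := h2.pow_left j
      rwa [show (k * k) ^ j = k by rw [(Commute.refl k).mul_pow, hj]] at h4
    exact (by simpa using h3.inv_right : Commute k f).eq.symm
  -- every nonzero vector is a translate of `s0` by a unique element of `F`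
  have hFs : ∀ e : E, e ≠ 0 → ∃ f ∈ F, f • s0 = e := fun e he => by
    obtain ⟨k, hk, hke⟩ := h.exists_inverted he
    exact ⟨k, hKF k hk, hke⟩
  -- the field
  let L : Subring (AddMonoid.End E) :=
    { carrier := {φ | ∀ f ∈ F, ∀ e : E, φ (f • e) = f • φ e}
      mul_mem' := fun {a b} ha hb f hf e => by
        show a (b (f • e)) = f • a (b e)
        rw [hb f hf, ha f hf]
      one_mem' := fun f hf e => rfl
      add_mem' := fun {a b} ha hb f hf e => by
        show a (f • e) + b (f • e) = f • (a e + b e)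
        rw [ha f hf, hb f hf, smul_add]
      zero_mem' := fun f hf e => (smul_zero f).symm
      neg_mem' := fun {a} ha f hf e => by
        show -(a (f • e)) = f • -(a e)
        rw [ha f hf, smul_neg] }
  let el : ∀ f ∈ F, L := fun f hf => ⟨DistribMulAction.toAddMonoidEnd D E f, fun f' hf' e => by
    show f • f' • e = f' • f • e
    rw [smul_smul, hFab f hf f' hf', mul_smul]⟩
  have hext : ∀ φ ψ : L, (φ : AddMonoid.End E) s0 = (ψ : AddMonoid.End E) s0 → φ = ψ := by
    intro φ ψ hφψ
    refine Subtype.ext (AddMonoidHom.ext fun e => ?_)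
    by_cases he : e = 0
    · subst he
      exact (map_zero (φ : AddMonoid.End E)).trans (map_zero (ψ : AddMonoid.End E)).symm
    · obtain ⟨f, hf, rfl⟩ := hFs e he
      exact (φ.2 f hf s0).trans ((congrArg (f • ·) hφψ).trans (ψ.2 f hf s0).symm)
  have hcomm : ∀ φ ψ : L, φ * ψ = ψ * φ := by
    intro φ ψ
    apply hext
    show (φ : AddMonoid.End E) ((ψ : AddMonoid.End E) s0) = (ψ : AddMonoid.End E) ((φ : AddMonoid.End E) s0)
    by_cases hψ : (ψ : AddMonoid.End E) s0 = 0
    · have : ψ = 0 := hext ψ 0 hψ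
      subst this
      exact map_zero (φ : AddMonoid.End E)
    · obtain ⟨f, hf, hfe⟩ := hFs _ hψ
      have h1 : ψ = el f hf := hext _ _ hfe.symm
      subst h1
      exact φ.2 f hf s0
  have hinv : ∀ {φ : L}, φ ≠ 0 → ∃ ψ, φ * ψ = 1 := by
    intro φ hφ
    obtain ⟨f, hf, hfe⟩ := hFs _ (fun e0 => hφ (hext φ 0 e0))
    refine ⟨el f⁻¹ (inv_mem hf), ?_⟩
    rw [hext φ (el f hf) hfe.symm]
    exact hext _ _ (smul_inv_smul f s0)
  letI : Field L := IsField.toField ⟨⟨0, 1, fun e => h.ne_zero
    (congrArg (fun φ : L => (φ : AddMonoid.End E) s0) e).symm⟩, hcomm, hinv⟩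
  haveI : Finite (AddMonoid.End E) :=
    Finite.of_injective (fun φ : AddMonoid.End E => (φ : E → E)) DFunLike.coe_injective
  haveI : Finite L := inferInstance
  let ev : L →+ E :=
    { toFun := fun φ => (φ : AddMonoid.End E) s0
      map_zero' := rfl
      map_add' := fun _ _ => rfl }
  refine ⟨⟨L, inferInstance, inferInstance, ev, fun φ ψ e => hext φ ψ e, ?_, fun g _ => ?_⟩, ?_⟩
  · refine top_unique fun e _ => ?_
    by_cases he : e = 0
    · exact ⟨0, he.symm⟩
    · obtain ⟨f, hf, rfl⟩ := hFs e he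
      exact ⟨el f hf, rfl⟩
  · have hg : g • s0 ≠ 0 := (smul_ne_zero_iff_ne g).2 h.ne_zero
    obtain ⟨f, hf, hfe⟩ := hFs _ hg
    set w := f⁻¹ * g with hw
    have hws : w • s0 = s0 := by rw [hw, mul_smul, ← hfe, inv_smul_smul]
    let cj : ∀ (y : D), L → L := fun y l =>
      ⟨DistribMulAction.toAddMonoidEnd D E y * (l : AddMonoid.End E) *
        DistribMulAction.toAddMonoidEnd D E y⁻¹, fun f' hf' e => by
        show y • (l : AddMonoid.End E) (y⁻¹ • f' • e) = f' • y • (l : AddMonoid.End E) (y⁻¹ • e)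
        have hc : y⁻¹ * f' * y ∈ F := by simpa using hFn.conj_mem f' hf' y⁻¹
        rw [show y⁻¹ • f' • e = (y⁻¹ * f' * y) • y⁻¹ • e by
          rw [smul_smul, smul_smul]; group, l.2 _ hc, smul_smul, smul_smul]
        group⟩
    have hcj : ∀ y l, cj y⁻¹ (cj y l) = l := fun y l => Subtype.ext (AddMonoidHom.ext fun e => by
      show y⁻¹ • y • (l : AddMonoid.End E) (y⁻¹ • y⁻¹⁻¹ • e) = _
      rw [inv_inv, inv_smul_smul, inv_smul_smul]
      rfl)
    let σ : L ≃+* L :=
      { toFun := cj w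
        invFun := cj w⁻¹
        left_inv := hcj w
        right_inv := fun l => by have := hcj w⁻¹ l; rwa [inv_inv] at this
        map_mul' := fun a b => Subtype.ext (AddMonoidHom.ext fun e => by
          show w • (a : AddMonoid.End E) ((b : AddMonoid.End E) (w⁻¹ • e)) =
            w • (a : AddMonoid.End E) (w⁻¹ • w • (b : AddMonoid.End E) (w⁻¹ • e))
          rw [inv_smul_smul])
        map_add' := fun a b => Subtype.ext (AddMonoidHom.ext fun e => by
          show w • ((a : AddMonoid.End E) (w⁻¹ • e) + (b : AddMonoid.End E) (w⁻¹ • e)) = _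
          rw [smul_add]
          rfl) }
    refine ⟨el f hf, σ, fun l => ?_⟩
    show g • (l : AddMonoid.End E) s0 = f • w • (l : AddMonoid.End E) (w⁻¹ • s0)
    rw [inv_smul_eq_iff.2 hws.symm, smul_smul, hw, mul_inv_cancel_left]
  · let hom : F →* L :=
      { toFun := fun f => el f f.2
        map_one' := hext _ _ (one_smul D s0)
        map_mul' := fun a b => hext _ _ (mul_smul (a : D) (b : D) s0) }
    have hhom : Function.Injective hom := fun a b e => Subtype.ext
      (h.eq_of_smul_eq (hFK a a.2) (hFK b b.2)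
        (congrArg (fun φ : L => (φ : AddMonoid.End E) s0) e))
    haveI := isCyclic_of_injective_ringHom hom hhom
    obtain ⟨k0, hk0⟩ := (Subgroup.isCyclic_iff_exists_zpowers_eq_top F).1 inferInstance
    exact ⟨k0, hk0.symm ▸ hFn, fun k => hk0.symm ▸ ⟨hKF k, hFK k⟩⟩

/-- semilinearity, groups in the universe of the module -/
theorem isSemilinearOn_aux : ∀ (N : ℕ) (D : Type v) [Group D] [Finite D] (E : Type v) [AddCommGroup E]
    [Finite E] [DistribMulAction D E] [FaithfulSMul D E] (τ : D ≃* D) (s0 : E), Nat.card E = N →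
    Twisted τ s0 → IsSemilinearOn (⊤ : AddSubgroup E) (Set.univ : Set D) := by
  intro N
  induction N using Nat.strong_induction_on with
  | _ N ih =>
    intro D _ _ E _ _ _ _ τ s0 hN h
    exact (h.structure_of_local (h.locallySemilinear fun D' _ _ E' _ _ _ _ τ' s' hlt h' =>
      ih _ (hN ▸ hlt) D' E' τ' s' rfl h')).1

/-- the inverted elements form a cyclic normal subgroup, and the group is semilinear -/
theorem Twisted.semilinear (h : Twisted τ s0) :
    IsSemilinearOn (⊤ : AddSubgroup E) (Set.univ : Set D) ∧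
      ∃ k0 : D, (Subgroup.zpowers k0).Normal ∧ ∀ k, τ k = k⁻¹ ↔ k ∈ Subgroup.zpowers k0 :=
  h.structure_of_local (h.locallySemilinear fun D' _ _ E' _ _ _ _ τ' s' _ h' =>
    isSemilinearOn_aux _ D' E' τ' s' rfl h')

/-- the stabiliser is cyclic -/
theorem Twisted.isCyclic_stabilizer (h : Twisted τ s0) : IsCyclic (MulAction.stabilizer D s0) := by
  classical
  obtain ⟨⟨L, hF, hfin, e, he, hrange, hact⟩, -⟩ := h.semilinear
  obtain ⟨l0, hl0⟩ : ∃ l0, e l0 = s0 := by
    have : s0 ∈ e.range := hrange ▸ AddSubgroup.mem_top s0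
    exact this
  have hl00 : l0 ≠ 0 := fun e0 => h.ne_zero (by rw [← hl0, e0, map_zero])
  -- rescale the coordinates so that `s0` has coordinate one
  let e' : L →+ E := e.comp (AddMonoidHom.mulLeft l0)
  have he' : Function.Injective e' := he.comp (mul_right_injective₀ hl00)
  have hact' : ∀ w : MulAction.stabilizer D s0, ∃ σ : L ≃+* L, ∀ l, (w : D) • e' l = e' (σ l) := by
    intro w
    obtain ⟨α, σ, hασ⟩ := hact w (Set.mem_univ _)
    refine ⟨σ, fun l => ?_⟩
    have h1 : α * σ l0 = l0 := he ((hασ l0).symm.trans (by rw [hl0]; exact w.2))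
    show (w : D) • e (l0 * l) = e (l0 * σ l)
    rw [hασ, map_mul σ, ← mul_assoc, h1]
  choose σ hσ using hact'
  have hsur : ∀ x : E, ∃ l, e' l = x := fun x => by
    have : x ∈ e.range := hrange ▸ AddSubgroup.mem_top x
    obtain ⟨l, rfl⟩ := this
    exact ⟨l0⁻¹ * l, by show e (l0 * (l0⁻¹ * l)) = e l; rw [mul_inv_cancel_left₀ hl00]⟩
  let π : MulAction.stabilizer D s0 →* (L ≃+* L) :=
    { toFun := σ
      map_one' := RingEquiv.ext fun l => he' (by rw [← hσ, Subgroup.coe_one, one_smul]; rfl)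
      map_mul' := fun a b => RingEquiv.ext fun l => he' (by
        rw [← hσ, Subgroup.coe_mul, mul_smul, hσ b, hσ a]; rfl) }
  have hπ : Function.Injective π := fun a b hab => Subtype.ext (eq_of_smul_eq_smul fun x : E => by
    obtain ⟨l, rfl⟩ := hsur x
    rw [hσ a, hσ b, show σ a = σ b from hab])
  haveI := isCyclic_ringEquiv L
  exact isCyclic_of_injective π hπ

end CfsgLib.TransOdd
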